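import Cfsg.Agent.ItoDesign.Design
import Mathlib.GroupTheory.Perm.Cycle.Type
import Mathlib.GroupTheory.PGroup
import Mathlib.Combinatorics.Enumerative.DoubleCounting

/-!
# Axial automorphisms: centres

In a symmetric design with a group two-transitive on points, let every block `B` carry a nontrivial
subgroup `T B` fixing `B` pointwise and no other point, compatibly with conjugation.  Then every
non-identity element of `T B` has a centre: a point of `B` all blocks through which are fixed.
-/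

set_option autoImplicit false

namespace CfsgLib.ItoDesign

open MulAction

variable {G Ω β : Type*} [Group G] [MulAction G Ω] [MulAction G β]

namespace Design

variable (D : Design G Ω β)

/-- The blocks through a point. -/
def thru (x : Ω) : Set β := {C | x ∈ D.pts C}

theorem smul_mem_iff (g : G) {C : β} (hC : g • C = C) (x : Ω) :
    g • x ∈ D.pts C ↔ x ∈ D.pts C := by
  conv_lhs => rw [← hC]
  exact D.mem_smul g C x

variable [Finite Ω]

include D in
theorem finite_blk : Finite β := by
  refine Nat.finite_of_card_ne_zero ?_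
  have := D.card_eq; have := D.k_add_two_le
  omega

theorem not_subset {C C' : β} (h : C ≠ C') : ∃ x ∈ D.pts C, x ∉ D.pts C' := by
  by_contra hall
  push_neg at hall
  have h1 := D.inter C C' h
  rw [Set.inter_eq_left.2 hall, D.card_pts] at h1
  have := D.l_add_two_le
  omega

theorem inj : Function.Injective D.pts := by
  intro C C' h
  by_contra hne
  obtain ⟨x, hx, hx'⟩ := D.not_subset hne
  exact hx' (h ▸ hx)

theorem exists_notMem (B : β) : ∃ x, x ∉ D.pts B := by
  by_contra hall
  push_neg at hall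
  have h1 := D.card_pts B
  rw [Set.eq_univ_of_forall hall, Set.ncard_univ] at h1
  have := D.k_add_two_le
  omega

theorem exists_mem (B : β) : ∃ x, x ∈ D.pts B := by
  refine Set.nonempty_of_ncard_ne_zero ?_
  rw [D.card_pts]
  have := D.two_le_k
  omega

include D in
theorem exists_ne_blk (B : β) : ∃ C, C ≠ B := by
  haveI := D.finite_blk
  haveI : Nontrivial β := Finite.one_lt_card_iff_nontrivial.1 (by
    have := D.card_eq; have := D.k_add_two_le; omega)
  exact exists_ne B

theorem exists_thru_not (x x' : Ω) (h : x ≠ x') : ∃ C, x ∈ D.pts C ∧ x' ∉ D.pts C := by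
  by_contra hall
  push_neg at hall
  have h1 := D.through_two x x' h
  rw [show {C | x ∈ D.pts C ∧ x' ∈ D.pts C} = {C | x ∈ D.pts C} from
    Set.ext fun C => ⟨And.left, fun hC => ⟨hC, hall C hC⟩⟩, D.through] at h1
  have := D.l_add_two_le
  omega

theorem thru_inj : Function.Injective D.thru := by
  intro x x' h
  by_contra hne
  obtain ⟨C, hC, hC'⟩ := D.exists_thru_not x x' hne
  exact hC' (by have : C ∈ D.thru x := hC; rw [h] at this; exact this)

/-- An element fixing a block pointwise fixes the block. -/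
theorem fix_block {g : G} {C : β} (h : ∀ x ∈ D.pts C, g • x = x) : g • C = C := by
  refine D.inj (Set.eq_of_subset_of_ncard_le (fun x hx => ?_) ?_).symm
  · rw [← h x hx]
    exact (D.mem_smul g C x).2 hx
  · rw [D.card_pts, D.card_pts]

/-- If a block meets two others in the same trace, these two meet in that trace. -/
theorem inter_subset {B C C' : β} (hC : C ≠ B) (hCC' : C ≠ C')
    (h : D.pts B ∩ D.pts C ⊆ D.pts C') : D.pts C ∩ D.pts C' ⊆ D.pts B := by
  have h1 : D.pts B ∩ D.pts C = D.pts C ∩ D.pts C' :=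
    Set.eq_of_subset_of_ncard_le (fun x hx => ⟨hx.2, h hx⟩)
      (by rw [D.inter C C' hCC', D.inter B C hC.symm])
  rw [← h1]
  exact Set.inter_subset_left

/-- For `g` fixing `B` pointwise and a point outside `B`, a block through the point is fixed if and only
if it contains the image of the point. -/
theorem crit {g : G} {B C : β} (h : ∀ x ∈ D.pts B, g • x = x) {y : Ω} (hy : y ∉ D.pts B)
    (hyC : y ∈ D.pts C) : g • C = C ↔ g • y ∈ D.pts C := by
  refine ⟨fun hC => (D.smul_mem_iff g hC y).2 hyC, fun hgy => ?_⟩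
  by_contra hne
  have hgyB : g • y ∉ D.pts B := fun hh => by
    have : g • y = y := (MulAction.injective g) (h _ hh)
    exact hy (this ▸ hh)
  have hCB : C ≠ B := fun e => hy (e ▸ hyC)
  exact hgyB (D.inter_subset hCB (Ne.symm hne) (fun x hx => by
    rw [← h x hx.1]; exact (D.mem_smul g C x).2 hx.2) ⟨hgy, (D.mem_smul g C y).2 hyC⟩)

end Design

/-- A family of axial subgroups. -/
structure Axial (D : Design G Ω β) where
  T : β → Subgroup G
  conj : ∀ (g : G) C t, t ∈ T C → g * t * g⁻¹ ∈ T (g • C)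
  fix : ∀ C t, t ∈ T C → ∀ x ∈ D.pts C, t • x = x
  semireg : ∀ C t, t ∈ T C → ∀ x, x ∉ D.pts C → t • x = x → t = 1
  ne_bot : ∀ C, T C ≠ ⊥

namespace Axial

variable {D : Design G Ω β} (A : Axial D)

theorem conj_fix {g : G} {C : β} (hg : g • C = C) {t : G} (ht : t ∈ A.T C) :
    g * t * g⁻¹ ∈ A.T C := by
  have := A.conj g C t ht
  rwa [hg] at this

theorem conj_fix' {g : G} {C : β} (hg : g • C = C) {t : G} (ht : t ∈ A.T C) :
    g⁻¹ * t * g ∈ A.T C := by
  have := A.conj_fix (g := g⁻¹) (inv_smul_eq_iff.2 hg.symm) ht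
  rwa [inv_inv] at this

variable [Finite Ω]

theorem smul_axis {C : β} {t : G} (ht : t ∈ A.T C) : t • C = C :=
  D.fix_block (A.fix C t ht)

theorem eq_one_of_two_axes {B C : β} (h : B ≠ C) {t : G} (hB : t ∈ A.T B)
    (hC : ∀ x ∈ D.pts C, t • x = x) : t = 1 := by
  obtain ⟨x, hx, hx'⟩ := D.not_subset h.symm
  exact A.semireg B t hB x hx' (hC x hx)

theorem fixedBy_pts {B : β} {t : G} (ht : t ∈ A.T B) (h1 : t ≠ 1) :
    fixedBy Ω t = D.pts B := by
  ext x
  refine ⟨fun hx => ?_, fun hx => A.fix B t ht x hx⟩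
  by_contra hxB
  exact h1 (A.semireg B t ht x hxB hx)

theorem ncard_fixedBy {B : β} {t : G} (ht : t ∈ A.T B) (h1 : t ≠ 1) :
    (fixedBy β t).ncard = D.k := by
  rw [D.fixed_eq, A.fixedBy_pts ht h1, D.card_pts]

/-- Exactly `l` fixed blocks pass through a moved point. -/
theorem ncard_fixed_thru {B : β} {t : G} (ht : t ∈ A.T B) (h1 : t ≠ 1) {y : Ω}
    (hy : y ∉ D.pts B) : {C | y ∈ D.pts C ∧ t • C = C}.ncard = D.l := by
  have hmove : y ≠ t • y := fun e => h1 (A.semireg B t ht y hy e.symm)
  rw [← D.through_two y (t • y) hmove]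
  congr 1
  ext C
  exact and_congr_right fun hyC => D.crit (A.fix B t ht) hy hyC

theorem ncard_orbit_eq {B C B' C' : β} (h : B ≠ C) (h' : B' ≠ C') :
    (orbit (A.T B') C').ncard = (orbit (A.T B) C).ncard := by
  obtain ⟨g, hB, hC⟩ := D.two_blk B C B' C' h h'
  have : orbit (A.T B') C' = (fun E => g • E) '' orbit (A.T B) C := by
    ext E
    constructor
    · rintro ⟨⟨t, ht⟩, rfl⟩
      refine ⟨g⁻¹ • (t • C'), ⟨⟨g⁻¹ * t * g, ?_⟩, ?_⟩, smul_inv_smul g _⟩
      · have := A.conj g⁻¹ B' t ht
        rwa [inv_inv, ← hB, inv_smul_smul] at this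
      · change (g⁻¹ * t * g) • C = g⁻¹ • (t • C')
        rw [mul_smul, mul_smul, hC]
    · rintro ⟨_, ⟨⟨t, ht⟩, rfl⟩, rfl⟩
      refine ⟨⟨g * t * g⁻¹, hB ▸ A.conj g B t ht⟩, ?_⟩
      change (g * t * g⁻¹) • C' = g • (t • C)
      rw [← hC, mul_smul, mul_smul, inv_smul_smul]
  rw [this, Set.ncard_image_of_injective _ (MulAction.injective g)]

/-- The fixed points of a permutation of prime order are congruent to the degree. -/
theorem ncard_modEq {g : G} {r : ℕ} [Fact r.Prime] (hg : g ^ r = 1) (S : Set β)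
    (hS : ∀ C, g • C ∈ S ↔ C ∈ S) [Finite β] :
    S.ncard ≡ {C | C ∈ S ∧ g • C = C}.ncard [MOD r] := by
  classical
  haveI := Fintype.ofFinite β
  let σ : Equiv.Perm S := (MulAction.toPerm g : Equiv.Perm β).subtypePerm hS
  have hσn : ∀ (n : ℕ) (C : S), ((σ ^ n) C : β) = g ^ n • (C : β) := by
    intro n C
    induction n with
    | zero => simp
    | succ n ih =>
      rw [pow_succ', pow_succ', mul_smul, ← ih]
      rfl
  have hσ : σ ^ r ^ 1 = 1 := by
    ext C
    rw [hσn, pow_one, hg, one_smul]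
    rfl
  have h := Equiv.Perm.card_compl_support_modEq (p := r) (n := 1) hσ
  have e : σ.supportᶜ.card = {C | C ∈ S ∧ g • C = C}.ncard := by
    rw [← Finset.card_map (Function.Embedding.subtype _), ← Set.ncard_coe_finset]
    congr 1
    ext C
    simp only [Finset.coe_map, Function.Embedding.coe_subtype, Finset.coe_compl, Set.mem_image,
      Set.mem_compl_iff, SetLike.mem_coe, Equiv.Perm.mem_support, not_not, Subtype.exists,
      exists_and_right, exists_eq_right, Set.mem_ofPred_eq, σ, Subtype.ext_iff]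
    exact ⟨fun ⟨h1, h2⟩ => ⟨h1, h2⟩, fun ⟨h1, h2⟩ => ⟨h1, h2⟩⟩
  rw [e, ← Nat.card_eq_fintype_card, Nat.card_coe_set_eq] at h
  exact h.symm

/-- Every prime dividing the order of an axial group divides its orbit lengths on the other blocks. -/
theorem dvd_ncard_orbit [Finite G] {B C : β} (h : B ≠ C) {r : ℕ} (hr : r.Prime)
    (hrT : r ∣ Nat.card (A.T B)) : r ∣ (orbit (A.T B) C).ncard := by
  classical
  haveI := Fact.mk hr
  haveI := D.finite_blk
  obtain ⟨g, hg⟩ := exists_prime_orderOf_dvd_card' r hrT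
  by_contra hnd
  have hg1 : g ≠ 1 := by
    intro e
    rw [e, orderOf_one] at hg
    exact hr.ne_one hg.symm
  have hgG1 : (g : G) ≠ 1 := fun e => hg1 (Subtype.ext e)
  have hgr : (g : G) ^ r = 1 := by
    rw [← hg]; exact_mod_cast congrArg Subtype.val (pow_orderOf_eq_one g)
  -- every orbit contains a fixed block
  have hex : ∀ q : orbitRel.Quotient (A.T B) β,
      ∃ E, (Quotient.mk'' E : orbitRel.Quotient (A.T B) β) = q ∧ (g : G) • E = E := by
    intro q
    induction q using Quotient.inductionOn' with | _ E => ?_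
    rcases eq_or_ne E B with rfl | hE
    · exact ⟨_, rfl, A.smul_axis g.2⟩
    have hmod := ncard_modEq (r := r) hgr (orbit (A.T B) E) (fun F => by
      change g • F ∈ orbit (A.T B) E ↔ _
      constructor
      · rintro ⟨t, ht⟩
        exact ⟨g⁻¹ * t, by change (g⁻¹ * t) • E = F; rw [mul_smul, inv_smul_eq_iff]; exact ht⟩
      · rintro ⟨t, rfl⟩
        exact ⟨g * t, mul_smul g t E⟩)
    have hne : {F | F ∈ orbit (A.T B) E ∧ (g : G) • F = F}.ncard ≠ 0 := by
      intro h0
      rw [h0, A.ncard_orbit_eq h hE.symm] at hmod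
      exact hnd (Nat.modEq_zero_iff_dvd.1 hmod)
    obtain ⟨F, hF, hgF⟩ := Set.nonempty_of_ncard_ne_zero hne
    exact ⟨F, Quotient.sound' hF, hgF⟩
  choose rep hrep hrepfix using hex
  have h1 : Nat.card (orbitRel.Quotient (A.T B) β) ≤ D.k := by
    rw [← A.ncard_fixedBy g.2 hgG1, ← Nat.card_coe_set_eq]
    refine Nat.card_le_card_of_injective
      (fun q => (⟨rep q, hrepfix q⟩ : fixedBy β (g : G))) fun q q' hqq' => ?_
    rw [← hrep q, ← hrep q']
    exact congrArg _ (congrArg Subtype.val hqq')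
  -- as many orbits on points as on blocks
  haveI := Fintype.ofFinite (A.T B)
  haveI := Fintype.ofFinite Ω
  haveI := Fintype.ofFinite β
  haveI := Fintype.ofFinite (orbitRel.Quotient (A.T B) β)
  haveI := Fintype.ofFinite (orbitRel.Quotient (A.T B) Ω)
  have h2 : Nat.card (orbitRel.Quotient (A.T B) β) = Nat.card (orbitRel.Quotient (A.T B) Ω) := by
    rw [Nat.card_eq_fintype_card, Nat.card_eq_fintype_card]
    refine mul_right_cancel₀ (Fintype.card_ne_zero (α := A.T B)) ?_
    rw [← sum_card_fixedBy_eq_card_orbits_mul_card_group,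
      ← sum_card_fixedBy_eq_card_orbits_mul_card_group]
    refine Finset.sum_congr rfl fun t _ => ?_
    rw [← Nat.card_eq_fintype_card, ← Nat.card_eq_fintype_card, Nat.card_coe_set_eq,
      Nat.card_coe_set_eq]
    exact D.fixed_eq t
  obtain ⟨y, hy⟩ := D.exists_notMem B
  let φ : Option (D.pts B) → orbitRel.Quotient (A.T B) Ω := fun o =>
    Quotient.mk'' (o.elim y Subtype.val)
  have hφ : Function.Injective φ := by
    have key : ∀ (b x : Ω), b ∈ D.pts B →
        (Quotient.mk'' x : orbitRel.Quotient (A.T B) Ω) = Quotient.mk'' b → x = b := by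
      intro b x hb e
      obtain ⟨t, ht⟩ := Quotient.exact e
      rw [← ht]
      exact A.fix B t t.2 b hb
    rintro (_ | b) (_ | b') e
    · rfl
    · exact absurd b'.2 (key _ _ b'.2 e ▸ hy)
    · exact absurd b.2 (key _ _ b.2 e.symm ▸ hy)
    · exact congrArg some (Subtype.ext (key _ _ b'.2 e))
  have h3 := Nat.card_le_card_of_injective φ hφ
  rw [Finite.card_option, Nat.card_coe_set_eq, D.card_pts, ← h2] at h3
  omega

/-- For `w` of prime order in `T B` fixing a block `C`, at most `l` fixed blocks pass through a point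
of `B` outside `C`. -/
theorem ncard_fixed_axis_le [Finite G] {B C : β} {w : G} (hw : w ∈ A.T B)
    (hp : (orderOf w).Prime) (hwC : w • C = C) (hCB : C ≠ B) {b : Ω} (hb : b ∈ D.pts B)
    (hbC : b ∉ D.pts C) : {E | b ∈ D.pts E ∧ w • E = E}.ncard ≤ D.l := by
  classical
  haveI := D.finite_blk
  haveI := Fact.mk hp
  have hw1 : w ≠ 1 := by
    rintro rfl
    rw [orderOf_one] at hp
    exact Nat.not_prime_one hp
  have hdvd : orderOf w ∣ Nat.card (A.T B) := by
    have := orderOf_dvd_natCard (⟨w, hw⟩ : A.T B)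
    rwa [Subgroup.orderOf_mk] at this
  have hdvd' : orderOf w ∣ (orbit (A.T C) B).ncard := by
    rw [A.ncard_orbit_eq hCB.symm hCB]
    exact A.dvd_ncard_orbit hCB.symm hp hdvd
  -- a second block of the orbit of `B` fixed by `w`
  have hmod := ncard_modEq (pow_orderOf_eq_one w) (orbit (A.T C) B) (fun F => by
    constructor
    · rintro ⟨⟨t, ht⟩, e⟩
      refine ⟨⟨w⁻¹ * t * w, A.conj_fix' hwC ht⟩, ?_⟩
      change (w⁻¹ * t * w) • B = F
      change t • B = w • F at e
      rw [mul_smul, mul_smul, A.smul_axis hw, e, inv_smul_smul]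
    · rintro ⟨⟨t, ht⟩, rfl⟩
      refine ⟨⟨w * t * w⁻¹, A.conj_fix hwC ht⟩, ?_⟩
      change (w * t * w⁻¹) • B = w • (t • B)
      rw [mul_smul, mul_smul, inv_smul_eq_iff.2 (A.smul_axis hw).symm])
  obtain ⟨E₁, ⟨⟨t, ht⟩, rfl⟩, hwt', hne'⟩ : ∃ E, E ∈ orbit (A.T C) B ∧ w • E = E ∧ E ≠ B := by
    by_contra hall
    push_neg at hall
    have : {E | E ∈ orbit (A.T C) B ∧ w • E = E} = {B} := by
      ext E
      refine ⟨fun hE => hall E hE.1 hE.2, ?_⟩
      rintro rfl
      exact ⟨mem_orbit_self _, A.smul_axis hw⟩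
    rw [this, Set.ncard_singleton] at hmod
    exact hp.ne_one (Nat.dvd_one.1 ((Nat.ModEq.dvd_iff hmod dvd_rfl).1 hdvd'))
  have hwt : w • (t • B) = t • B := hwt'
  have hne : t • B ≠ B := hne'
  clear hwt' hne' hmod
  set B' := t⁻¹ • B with hB'
  set u := t⁻¹ * (w * t * w⁻¹) with hu_def
  set w' := t⁻¹ * w * t with hw'_def
  have hu : u ∈ A.T C := mul_mem (inv_mem ht) (A.conj_fix hwC ht)
  have huw : w' = u * w := by rw [hu_def, hw'_def]; group
  have huB : u • B = B := by
    rw [hu_def, mul_smul, mul_smul, mul_smul, inv_smul_eq_iff.2 (A.smul_axis hw).symm, hwt,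
      inv_smul_smul]
  have hw' : w' ∈ A.T B' := by
    have := A.conj t⁻¹ B w hw
    rwa [inv_inv] at this
  have hBne : B' ≠ B := by
    intro e
    refine hne ?_
    rw [hB', inv_smul_eq_iff] at e
    exact e.symm
  have hB'C : B' ≠ C := by
    intro e
    rw [hB', inv_smul_eq_iff, A.smul_axis ht] at e
    exact hCB e.symm
  have hu1 : u ≠ 1 := by
    intro e
    rw [e, one_mul] at huw
    exact hw1 (A.eq_one_of_two_axes hBne.symm hw (fun x hx => huw ▸ A.fix B' w' hw' x hx))
  have hIsub : D.pts B ∩ D.pts C ⊆ D.pts B' := by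
    intro x hx
    have h1 : t⁻¹ • x = x := inv_smul_eq_iff.2 (A.fix C t ht x hx.2).symm
    rw [← h1]
    exact (D.mem_smul t⁻¹ B x).2 hx.1
  rw [← A.ncard_fixed_thru hu hu1 hbC]
  refine Set.ncard_le_ncard (fun E hE => ⟨hE.1, ?_⟩)
  obtain ⟨hbE, hwE⟩ := hE
  rcases eq_or_ne E B with rfl | hEB
  · exact huB
  have hnsub : ¬ D.pts B ∩ D.pts C ⊆ D.pts E := by
    intro hsub
    have h1 : D.pts B ∩ D.pts C = D.pts B ∩ D.pts E :=
      Set.eq_of_subset_of_ncard_le (fun x hx => ⟨hx.1, hsub hx⟩)
        (by rw [D.inter B C hCB.symm, D.inter B E hEB.symm])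
    exact hbC (h1.ge ⟨hb, hbE⟩).2
  have hEB' : E ≠ B' := by
    intro e
    exact hnsub (e ▸ hIsub)
  obtain ⟨y, hyE, hyB', hyB⟩ : ∃ y, y ∈ D.pts E ∧ y ∈ D.pts B' ∧ y ∉ D.pts B := by
    by_contra hall
    push_neg at hall
    refine hnsub ?_
    have h1 : D.pts E ∩ D.pts B' = D.pts B ∩ D.pts B' :=
      Set.eq_of_subset_of_ncard_le (fun x hx => ⟨hall x hx.1 hx.2, hx.2⟩)
        (by rw [D.inter E B' hEB', D.inter B B' hBne.symm])
    exact fun x hx => (h1.ge ⟨hx.1, hIsub hx⟩).1
  have hyC : y ∉ D.pts C := fun hyC => hyB (D.inter_subset (B := B) (C := C) (C' := B') hCB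
    hB'C.symm hIsub ⟨hyC, hyB'⟩)
  have hfix : u • (w • y) = y := by
    rw [← mul_smul, ← huw]
    exact A.fix B' w' hw' y hyB'
  have hwy : w • y = u⁻¹ • y := (eq_inv_smul_iff).2 hfix
  have h2 : u⁻¹ • E = E := by
    rw [D.crit (A.fix C u⁻¹ (inv_mem hu)) hyC hyE, ← hwy]
    exact (D.crit (A.fix B w hw) hyB hyE).1 hwE
  exact (inv_smul_eq_iff.1 h2).symm

/-- Every nontrivial element of an axial group has a centre on the axis. -/
theorem exists_centre [Finite G] {B : β} {t : G} (ht : t ∈ A.T B) (h1 : t ≠ 1) :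
    ∃ z ∈ D.pts B, fixedBy β t = D.thru z := by
  classical
  haveI := D.finite_blk
  haveI := Fintype.ofFinite Ω
  haveI := Fintype.ofFinite β
  have horder : orderOf t ≠ 1 := fun e => h1 (orderOf_eq_one_iff.1 e)
  obtain ⟨r, hr, hrd⟩ := Nat.exists_prime_and_dvd horder
  set w := t ^ (orderOf t / r) with hw_def
  have hwo : orderOf w = r := orderOf_pow_orderOf_div (orderOf_pos t).ne' hrd
  have hw : w ∈ A.T B := pow_mem ht _
  have hw1 : w ≠ 1 := fun e => hr.ne_one (by rw [← hwo, e, orderOf_one])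
  have hsub : fixedBy β t = fixedBy β w := by
    refine Set.eq_of_subset_of_ncard_le (fun C hC => ?_) ?_
    · change t ^ (orderOf t / r) • C = C
      induction orderOf t / r with
      | zero => simp
      | succ n ih => rw [pow_succ, mul_smul, hC, ih]
    · rw [A.ncard_fixedBy hw hw1, A.ncard_fixedBy ht h1]
  rw [hsub]
  obtain ⟨b, hb, hbig⟩ : ∃ b ∈ D.pts B, D.l < {E | b ∈ D.pts E ∧ w • E = E}.ncard := by
    by_contra hall
    push_neg at hall
    set F := (Finset.univ : Finset β).filter (fun E => w • E = E) with hF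
    set S := (Finset.univ : Finset Ω).filter (fun x => x ∈ D.pts B) with hS
    have hFc : F.card = D.k := by
      rw [← A.ncard_fixedBy hw hw1, ← Set.ncard_coe_finset]
      congr 1; ext E; simp [hF]
    have hSc : S.card = D.k := by
      rw [← D.card_pts B, ← Set.ncard_coe_finset]
      congr 1; ext x; simp [hS]
    have h3 := Finset.sum_card_bipartiteAbove_eq_sum_card_bipartiteBelow
      (s := S) (t := F) (fun x E => x ∈ D.pts E)
    have hup : ∑ x ∈ S, (F.bipartiteAbove (fun x E => x ∈ D.pts E) x).card ≤ D.k * D.l := by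
      rw [← hSc, ← smul_eq_mul]
      refine Finset.sum_le_card_nsmul _ _ _ fun x hx => ?_
      refine le_of_eq_of_le ?_ (hall x (by simpa [hS] using hx))
      rw [← Set.ncard_coe_finset]
      congr 1; ext E; simp [hF, Finset.bipartiteAbove, and_comm]
    have hlow : ∀ E ∈ F, (S.bipartiteBelow (fun x E => x ∈ D.pts E) E).card =
        if E = B then D.k else D.l := by
      intro E _
      split_ifs with hE
      · subst hE
        rw [← D.card_pts E, ← Set.ncard_coe_finset]
        congr 1; ext x; simp [hS, Finset.bipartiteBelow]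
      · rw [← D.inter B E (Ne.symm hE), ← Set.ncard_coe_finset]
        congr 1; ext x; simp [hS, Finset.bipartiteBelow]
    have hBF : B ∈ F := by simp [hF, A.smul_axis hw]
    rw [Finset.sum_congr rfl hlow, ← Finset.add_sum_erase F _ hBF, if_pos rfl,
      Finset.sum_congr rfl (fun E hE => if_neg (Finset.mem_erase.1 hE).1), Finset.sum_const,
      Finset.card_erase_of_mem hBF, hFc, smul_eq_mul] at h3
    rw [h3] at hup
    have := D.l_add_two_le
    have h5 : D.k * D.l = (D.k - 1) * D.l + D.l := by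
      conv_lhs => rw [show D.k = (D.k - 1) + 1 by omega, add_mul, one_mul]
    omega
  refine ⟨b, hb, Set.eq_of_subset_of_ncard_le (fun C hC => ?_) ?_⟩
  · rcases eq_or_ne C B with rfl | hCB
    · exact hb
    by_contra hbC
    exact absurd (A.ncard_fixed_axis_le hw (hwo ▸ hr) hC hCB hb hbC) (not_le.2 hbig)
  · rw [A.ncard_fixedBy hw hw1]
    exact (D.through b).le

end Axial

end CfsgLib.ItoDesign
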