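import Cfsg.Agent.ItoDesign.Axial
import Mathlib.GroupTheory.Index
import Mathlib.GroupTheory.Coset.Card

/-!
# The components of an axial group

The elements with a given centre form a subgroup; these subgroups have the same order and form a
partition, so that the axial group is elementary abelian and regular outside its axis.
-/

set_option autoImplicit false

namespace CfsgLib.ItoDesign

open MulAction

variable {G Ω β : Type*} [Group G] [MulAction G Ω] [MulAction G β] {D : Design G Ω β}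

namespace Axial

variable (A : Axial D)

/-- The elements of axis `B` fixing every block through `z`. -/
def E (B : β) (z : Ω) : Subgroup G where
  carrier := {t | t ∈ A.T B ∧ ∀ C, z ∈ D.pts C → t • C = C}
  mul_mem' hs ht := ⟨mul_mem hs.1 ht.1, fun C hC => by rw [mul_smul, ht.2 C hC, hs.2 C hC]⟩
  one_mem' := ⟨one_mem _, fun C _ => one_smul G C⟩
  inv_mem' ht := ⟨inv_mem ht.1, fun C hC => inv_smul_eq_iff.2 (ht.2 C hC).symm⟩

theorem mem_E {B : β} {z : Ω} {t : G} :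
    t ∈ A.E B z ↔ t ∈ A.T B ∧ ∀ C, z ∈ D.pts C → t • C = C := Iff.rfl

theorem E_le (B : β) (z : Ω) : A.E B z ≤ A.T B := fun _ ht => ht.1

theorem conj_E (g : G) {B : β} {z : Ω} {t : G} (ht : t ∈ A.E B z) :
    g * t * g⁻¹ ∈ A.E (g • B) (g • z) := by
  refine ⟨A.conj g B t ht.1, fun C hC => ?_⟩
  have hz : z ∈ D.pts (g⁻¹ • C) := by
    have := (D.mem_smul g⁻¹ C (g • z)).2 hC
    rwa [inv_smul_smul] at this
  rw [mul_smul, mul_smul, ht.2 _ hz, smul_inv_smul]

theorem normal_E {B : β} {z : Ω} (hz : z ∈ D.pts B) [Finite Ω] {t s : G} (ht : t ∈ A.T B)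
    (hs : s ∈ A.E B z) : t * s * t⁻¹ ∈ A.E B z := by
  have := A.conj_E t hs
  rwa [A.smul_axis ht, A.fix B t ht z hz] at this

variable [Finite Ω] [Finite G]

theorem fixedBy_of_mem_E {B : β} {z : Ω} {t : G} (ht : t ∈ A.E B z)
    (h1 : t ≠ 1) : fixedBy β t = D.thru z := by
  haveI := D.finite_blk
  refine (Set.eq_of_subset_of_ncard_le (s := D.thru z) (t := fixedBy β t) (fun C hC => ht.2 C hC) ?_).symm
  rw [A.ncard_fixedBy ht.1 h1]
  exact (D.through z).ge

theorem mem_of_E {B C : β} {z : Ω} {t : G} (ht : t ∈ A.E B z) (h1 : t ≠ 1) :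
    t • C = C ↔ z ∈ D.pts C := by
  have := Set.ext_iff.1 (A.fixedBy_of_mem_E ht h1) C
  exact this

theorem E_inter {B : β} {z z' : Ω} (h : z ≠ z') {t : G} (ht : t ∈ A.E B z) (ht' : t ∈ A.E B z') :
    t = 1 := by
  by_contra h1
  exact h (D.thru_inj ((A.fixedBy_of_mem_E ht h1).symm.trans (A.fixedBy_of_mem_E ht' h1)))

theorem exists_mem_E {B : β} {t : G} (ht : t ∈ A.T B) (h1 : t ≠ 1) :
    ∃ z ∈ D.pts B, t ∈ A.E B z := by
  obtain ⟨z, hz, he⟩ := A.exists_centre ht h1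
  exact ⟨z, hz, ht, fun C hC => (he.ge hC : C ∈ fixedBy β t)⟩

theorem card_E_eq {B B' : β} {z z' : Ω} (hz : z ∈ D.pts B) (hz' : z' ∈ D.pts B') :
    Nat.card (A.E B z) = Nat.card (A.E B' z') := by
  have key : ∀ {B B' : β} {z z' : Ω}, z ∈ D.pts B → z' ∈ D.pts B' →
      Nat.card (A.E B z) ≤ Nat.card (A.E B' z') := by
    intro B B' z z' hz hz'
    obtain ⟨g, hgz, hgB⟩ := D.flag z B z' B' (iff_of_true hz hz')
    subst hgz hgB
    refine Nat.card_le_card_of_injective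
      (fun t : A.E B z => (⟨g * t * g⁻¹, A.conj_E g t.2⟩ : A.E (g • B) (g • z))) fun s t h => ?_
    exact Subtype.ext (mul_left_cancel (mul_right_cancel (congrArg Subtype.val h)))
  exact le_antisymm (key hz hz') (key hz' hz)

theorem E_ne_bot {B : β} {z : Ω} (hz : z ∈ D.pts B) : ∃ t ∈ A.E B z, t ≠ 1 := by
  obtain ⟨t, ht, h1⟩ := (A.T B).ne_bot_iff_exists_ne_one.1 (A.ne_bot B) |> fun ⟨x, hx⟩ =>
    (⟨x.1, x.2, fun e => hx (Subtype.ext e)⟩ : ∃ t, t ∈ A.T B ∧ t ≠ 1)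
  obtain ⟨z₀, hz₀, ht₀⟩ := A.exists_mem_E ht h1
  by_contra hall
  push_neg at hall
  have hb : A.E B z = ⊥ := (Subgroup.eq_bot_iff_forall _).2 hall
  have := A.card_E_eq hz hz₀
  rw [hb, Subgroup.card_bot] at this
  have h2 := Subgroup.eq_bot_of_card_eq _ this.symm
  rw [h2, Subgroup.mem_bot] at ht₀
  exact h1 ht₀

theorem commute_of_E {B : β} {z z' : Ω} (hz : z ∈ D.pts B) (hz' : z' ∈ D.pts B) (h : z ≠ z')
    {s t : G} (hs : s ∈ A.E B z) (ht : t ∈ A.E B z') : s * t = t * s := by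
  rw [← mul_inv_eq_one]
  refine A.E_inter (B := B) h ?_ ?_
  · rw [show s * t * (t * s)⁻¹ = s * (t * s⁻¹ * t⁻¹) by group]
    exact mul_mem hs (A.normal_E hz ht.1 (inv_mem hs))
  · rw [show s * t * (t * s)⁻¹ = (s * t * s⁻¹) * t⁻¹ by group]
    exact mul_mem (A.normal_E hz' hs.1 ht) (inv_mem ht)

theorem exists_other {B : β} (z : Ω) : ∃ y ∈ D.pts B, y ≠ z :=
  Set.exists_ne_of_one_lt_ncard (by rw [D.card_pts]; exact D.two_le_k) z

/-- A product of nontrivial elements with different centres has a third centre. -/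
theorem exists_third {B : β} {z z' : Ω} (h : z ≠ z') {s t : G}
    (hs : s ∈ A.E B z) (ht : t ∈ A.E B z') (hs1 : s ≠ 1) (ht1 : t ≠ 1) :
    ∃ w ∈ D.pts B, w ≠ z ∧ w ≠ z' ∧ s * t ∈ A.E B w := by
  have hst : s * t ≠ 1 := by
    intro e
    rw [mul_eq_one_iff_eq_inv] at e
    exact hs1 (A.E_inter h hs (e ▸ inv_mem ht))
  obtain ⟨w, hw, hwst⟩ := A.exists_mem_E (mul_mem hs.1 ht.1) hst
  refine ⟨w, hw, ?_, ?_, hwst⟩
  · rintro rfl
    exact ht1 (A.E_inter h ((Subgroup.mul_mem_cancel_left _ hs).1 hwst) ht)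
  · rintro rfl
    exact hs1 (A.E_inter h hs ((Subgroup.mul_mem_cancel_right _ ht).1 hwst))

theorem commute {B : β} {s t : G} (hs : s ∈ A.T B) (ht : t ∈ A.T B) : s * t = t * s := by
  rcases eq_or_ne s 1 with rfl | hs1
  · simp
  rcases eq_or_ne t 1 with rfl | ht1
  · simp
  obtain ⟨z, hz, hsz⟩ := A.exists_mem_E hs hs1
  obtain ⟨z', hz', htz⟩ := A.exists_mem_E ht ht1
  rcases eq_or_ne z z' with rfl | hne
  · obtain ⟨y, hy, hyz⟩ := exists_other (D := D) (B := B) z
    obtain ⟨e, he, he1⟩ := A.E_ne_bot hy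
    obtain ⟨w, hw, hwz, -, hse⟩ := A.exists_third hyz.symm hsz he hs1 he1
    have h1 : t * (s * e) = (s * e) * t := A.commute_of_E hz hw hwz.symm htz hse
    have h2 : t * e = e * t := A.commute_of_E hz hy hyz.symm htz he
    refine mul_right_cancel (b := e) ?_
    rw [mul_assoc s t e, h2, ← mul_assoc s e t, ← h1, ← mul_assoc]
  · exact A.commute_of_E hz hz' hne hsz htz

/-- The axial groups are elementary abelian. -/
theorem exists_prime (B₀ : β) : ∃ p : ℕ, p.Prime ∧ ∀ t ∈ A.T B₀, t ^ p = 1 := by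
  obtain ⟨z₀, hz₀⟩ := D.exists_mem B₀
  have key : ∀ z z', z ∈ D.pts B₀ → z' ∈ D.pts B₀ → z ≠ z' → ∀ s ∈ A.E B₀ z, ∀ t ∈ A.E B₀ z',
      s ≠ 1 → t ≠ 1 → t ^ orderOf s = 1 := by
    intro z z' hz hz' h s hs t ht hs1 ht1
    obtain ⟨w, -, -, hwz', hst⟩ := A.exists_third h hs ht hs1 ht1
    have hc : Commute s t := A.commute hs.1 ht.1
    have h1 : (s * t) ^ orderOf s = t ^ orderOf s := by
      rw [hc.mul_pow, pow_orderOf_eq_one, one_mul]
    exact A.E_inter hwz' (h1 ▸ pow_mem hst _) (pow_mem ht _)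
  obtain ⟨x, hx, hx1⟩ := A.E_ne_bot hz₀
  obtain ⟨r, hr, hrd⟩ := Nat.exists_prime_and_dvd (n := orderOf x)
    (fun e => hx1 (orderOf_eq_one_iff.1 e))
  have hwo : orderOf (x ^ (orderOf x / r)) = r := orderOf_pow_orderOf_div (orderOf_pos x).ne' hrd
  have hw1 : x ^ (orderOf x / r) ≠ 1 := fun e => hr.ne_one (by rw [← hwo, e, orderOf_one])
  have hw : x ^ (orderOf x / r) ∈ A.E B₀ z₀ := pow_mem hx _
  obtain ⟨y, hy, hyz⟩ := exists_other (D := D) (B := B₀) z₀
  have hY : ∀ t ∈ A.E B₀ y, t ^ r = 1 := by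
    intro t ht
    rcases eq_or_ne t 1 with rfl | ht1
    · exact one_pow _
    have := key _ _ hz₀ hy hyz.symm _ hw t ht hw1 ht1
    rwa [hwo] at this
  obtain ⟨e, he, he1⟩ := A.E_ne_bot hy
  haveI := Fact.mk hr
  have heo : orderOf e = r := orderOf_eq_prime (hY e he) he1
  refine ⟨r, hr, fun t ht => ?_⟩
  rcases eq_or_ne t 1 with rfl | ht1
  · exact one_pow _
  obtain ⟨z, hz, htz⟩ := A.exists_mem_E ht ht1
  rcases eq_or_ne z y with rfl | hzy
  · exact hY t htz
  · have := key _ _ hy hz hzy.symm e he t htz he1 ht1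
    rwa [heo] at this

/-- The nontrivial elements of a subgroup determined by a set of centres. -/
theorem card_sub_one {B : β} (U : Subgroup G) (hU : U ≤ A.T B) (S : Set Ω)
    (hS : S ⊆ D.pts B) (h : ∀ z ∈ D.pts B, ∀ t ∈ A.E B z, t ≠ 1 → (t ∈ U ↔ z ∈ S))
    {z₀ : Ω} (hz₀ : z₀ ∈ D.pts B) :
    (Nat.card U : ℤ) - 1 = S.ncard * ((Nat.card (A.E B z₀) : ℤ) - 1) := by
  classical
  haveI := Fintype.ofFinite Ω
  haveI := Fintype.ofFinite G
  let N : Subgroup G → Finset G := fun V => Finset.univ.filter fun t => t ∈ V ∧ t ≠ 1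
  have hN : ∀ V : Subgroup G, ((N V).card : ℤ) = (Nat.card V : ℤ) - 1 := by
    intro V
    have h1 : (N V) = ((Finset.univ.filter fun t => t ∈ V).erase 1) := by
      ext t; simp [N, and_comm]
    rw [h1, Finset.card_erase_of_mem (by simp [one_mem]), Nat.cast_sub
      (Finset.card_pos.2 ⟨1, by simp [one_mem]⟩), Nat.card_eq_fintype_card,
      ← Fintype.card_subtype]
    simp
  have hd : ∀ z ∈ S.toFinset, ∀ z' ∈ S.toFinset, z ≠ z' →
      Disjoint (N (A.E B z)) (N (A.E B z')) := by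
    intro z _ z' _ hne
    rw [Finset.disjoint_left]
    intro t ht ht'
    simp only [N, Finset.mem_filter] at ht ht'
    exact ht.2.2 (A.E_inter hne ht.2.1 ht'.2.1)
  have hu : N U = S.toFinset.biUnion fun z => N (A.E B z) := by
    ext t
    simp only [N, Finset.mem_filter, Finset.mem_univ, true_and, Finset.mem_biUnion, Set.mem_toFinset]
    constructor
    · rintro ⟨htU, ht1⟩
      obtain ⟨z, hz, htz⟩ := A.exists_mem_E (hU htU) ht1
      exact ⟨z, (h z hz t htz ht1).1 htU, htz, ht1⟩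
    · rintro ⟨z, hz, htz, ht1⟩
      exact ⟨(h z (hS hz) t htz ht1).2 hz, ht1⟩
  rw [← hN U, hu, Finset.card_biUnion hd, Nat.cast_sum, Set.ncard_eq_toFinset_card']
  rw [Finset.sum_congr rfl fun z hz => by
    rw [hN, A.card_E_eq (hS (Set.mem_toFinset.1 hz)) hz₀], Finset.sum_const, nsmul_eq_mul]

/-- The stabiliser of a block in an axial group. -/
def stab (B C : β) : Subgroup G := A.T B ⊓ stabilizer G C

theorem mem_stab {B C : β} {t : G} : t ∈ A.stab B C ↔ t ∈ A.T B ∧ t • C = C := Iff.rfl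

/-- Commutation with an element of another axis gives a homomorphism onto a component. -/
theorem comm_mem {B C : β} {z : Ω} (hzB : z ∈ D.pts B) {u : G} (hu : u ∈ A.E C z)
    {t : G} (ht : t ∈ A.T B) : t⁻¹ * (u * t * u⁻¹) ∈ A.E B z := by
  have huB : u • B = B := hu.2 B hzB
  have h2 : t⁻¹ * u * t ∈ A.E (t⁻¹ • C) z := by
    have := A.conj_E t⁻¹ hu
    rwa [inv_inv, A.fix B t⁻¹ (inv_mem ht) z hzB] at this
  refine ⟨mul_mem (inv_mem ht) (A.conj_fix huB ht), fun F hF => ?_⟩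
  rw [show t⁻¹ * (u * t * u⁻¹) = (t⁻¹ * u * t) * u⁻¹ by group, mul_smul,
    inv_smul_eq_iff.2 (hu.2 F hF).symm, h2.2 F hF]

theorem comm_mul {B C : β} {z : Ω} (hzB : z ∈ D.pts B) {u : G} (hu : u ∈ A.E C z)
    {s t : G} (hs : s ∈ A.T B) (ht : t ∈ A.T B) :
    (s * t)⁻¹ * (u * (s * t) * u⁻¹) = (s⁻¹ * (u * s * u⁻¹)) * (t⁻¹ * (u * t * u⁻¹)) := by
  rw [show (s * t)⁻¹ * (u * (s * t) * u⁻¹) = t⁻¹ * (s⁻¹ * (u * s * u⁻¹)) * (u * t * u⁻¹) by group,
    A.commute (inv_mem ht) (A.comm_mem hzB hu hs).1, mul_assoc]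

/-- An element of axis `B` commutes with a nontrivial element of axis `C` only if it fixes `C`. -/
theorem smul_of_comm {B C : β} {u : G} (hu : u ∈ A.T C) (hu1 : u ≠ 1)
    {t : G} (h : t⁻¹ * (u * t * u⁻¹) = 1) : t • C = C := by
  have hc : u * t = t * u := by
    have := congrArg (fun x => t * x * u) h
    simpa [mul_assoc] using this
  refine (D.inj (Set.eq_of_subset_of_ncard_le (fun x hx => ?_) ?_)).symm
  · by_contra hxC
    have hx' : t⁻¹ • x ∉ D.pts C ∨ t⁻¹ • x ∈ D.pts C := (em _).symm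
    rcases hx' with hx' | hx'
    · exact hx' (by
        by_contra hh
        exact hu1 (A.semireg C u hu _ hh (by
          rw [← mul_smul]
          have : u * t⁻¹ = t⁻¹ * u := by
            rw [eq_inv_mul_iff_mul_eq, ← mul_assoc, ← hc, mul_inv_cancel_right]
          rw [this, mul_smul, A.fix C u hu x hx])))
    · exact hxC (by
        have := (D.mem_smul t C _).2 hx'
        rwa [smul_inv_smul] at this)
  · rw [D.card_pts, D.card_pts]

/-- The parameters of the components. -/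
theorem params {B C : β} (hCB : C ≠ B) {z₀ : Ω} (hz₀ : z₀ ∈ D.pts B) :
    Nat.card (A.T B) + D.k = Nat.card Ω ∧ Nat.card (A.stab B C) + D.l = D.k ∧
      Nat.card (A.T B) = Nat.card (A.E B z₀) * Nat.card (A.stab B C) ∧
      2 ≤ Nat.card (A.E B z₀) := by
  classical
  set q := Nat.card (A.E B z₀) with hq
  set τ := Nat.card (A.stab B C) with hτ
  have hq2 : 2 ≤ q := by
    obtain ⟨t, ht, ht1⟩ := A.E_ne_bot hz₀
    exact (Subgroup.one_lt_card_iff_ne_bot _).2 fun e => ht1 (by rwa [e, Subgroup.mem_bot] at ht)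
  have hT : (Nat.card (A.T B) : ℤ) - 1 = D.k * ((q : ℤ) - 1) := by
    rw [← D.card_pts B]
    exact A.card_sub_one (A.T B) le_rfl _ le_rfl
      (fun z hz t ht _ => iff_of_true (A.E_le B z ht) hz) hz₀
  have hτ' : (τ : ℤ) - 1 = D.l * ((q : ℤ) - 1) := by
    rw [← D.inter B C hCB.symm]
    refine A.card_sub_one (A.stab B C) inf_le_left _ Set.inter_subset_left
      (fun z hz t ht ht1 => ?_) hz₀
    rw [A.mem_stab, A.mem_of_E ht ht1]
    exact ⟨fun h => ⟨hz, h.2⟩, fun h => ⟨ht.1, h.2⟩⟩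
  obtain ⟨z, hzB, hzC⟩ : ∃ z, z ∈ D.pts B ∧ z ∈ D.pts C :=
    Set.nonempty_of_ncard_ne_zero (s := D.pts B ∩ D.pts C)
      (by rw [D.inter B C hCB.symm]; have := D.one_le_l; omega)
  obtain ⟨u, hu, hu1⟩ := A.E_ne_bot hzC
  let δ : A.T B →* A.E B z :=
    { toFun := fun t => ⟨(t : G)⁻¹ * (u * t * u⁻¹), A.comm_mem hzB hu t.2⟩
      map_one' := Subtype.ext (by simp)
      map_mul' := fun s t => Subtype.ext (A.comm_mul hzB hu s.2 t.2) }
  have hker : Nat.card δ.ker ≤ τ := by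
    refine Nat.card_le_card_of_injective (fun t => (⟨((t : A.T B) : G), (t : A.T B).2,
      A.smul_of_comm (B := B) hu.1 hu1 (congrArg Subtype.val t.2)⟩ : A.stab B C)) fun s t h => ?_
    exact Subtype.ext (Subtype.ext (congrArg (fun x : A.stab B C => (x : G)) h))
  have hle : Nat.card (A.T B) ≤ q * τ := by
    rw [← Subgroup.card_mul_index δ.ker, Subgroup.index_ker, mul_comm q]
    refine Nat.mul_le_mul hker ?_
    rw [hq, A.card_E_eq hz₀ hzB]
    exact Subgroup.card_le_card_group δ.range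
  obtain ⟨z', hz'B, hz'C⟩ := D.not_subset hCB.symm
  have hge : q * τ ≤ Nat.card (A.T B) := by
    rw [hq, A.card_E_eq hz₀ hz'B, hτ, ← Nat.card_prod]
    refine Nat.card_le_card_of_injective
      (fun p : A.E B z' × A.stab B C =>
        (⟨(p.1 : G) * p.2, mul_mem p.1.2.1 p.2.2.1⟩ : A.T B)) fun p p' h => ?_
    have h' : ((p'.1 : G)⁻¹ * p.1 : G) = (p'.2 : G) * (p.2 : G)⁻¹ := by
      have := congrArg Subtype.val h
      rw [inv_mul_eq_iff_eq_mul, ← mul_assoc, eq_mul_inv_iff_mul_eq]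
      exact this
    have h1 : ((p'.1 : G)⁻¹ * p.1 : G) = 1 := by
      by_contra hne
      refine hz'C ((A.mem_of_E (mul_mem (inv_mem p'.1.2) p.1.2) hne).1 ?_)
      rw [h']
      exact (mul_mem p'.2.2 (inv_mem p.2.2) : _ ∈ A.stab B C).2
    rw [h1, eq_comm, mul_inv_eq_one] at h'
    exact Prod.ext (Subtype.ext (inv_mul_eq_one.1 h1).symm) (Subtype.ext h'.symm)
  have hTq : Nat.card (A.T B) = q * τ := le_antisymm hle hge
  have hlam : (D.k : ℤ) * ((D.k : ℤ) - 1) = D.l * ((Nat.card Ω : ℤ) - 1) := by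
    have h1 := D.two_le_k
    have h2 := D.k_add_two_le
    have h3 := congrArg (Nat.cast : ℕ → ℤ) D.param
    rw [Nat.cast_mul, Nat.cast_mul, Nat.cast_sub (by omega), Nat.cast_sub (by omega)] at h3
    exact_mod_cast h3
  have hqz : (2 : ℤ) ≤ q := by exact_mod_cast hq2
  rw [hTq] at hT
  push_cast at hT
  have hτkl : (τ : ℤ) = D.k - D.l := by
    refine mul_left_cancel₀ (show ((q : ℤ) - 1) ≠ 0 by omega) ?_
    linear_combination hT - hτ'
  have hk : (D.k : ℤ) = 1 + q * D.l := by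
    linear_combination hτ' - hτkl
  refine ⟨?_, by omega, hTq, hq2⟩
  rw [hTq]
  have h4 : (D.l : ℤ) * (((q * τ : ℕ) : ℤ) + D.k - Nat.card Ω) = 0 := by
    push_cast
    linear_combination (q : ℤ) * D.l * hτkl + hlam - ((D.k : ℤ) - D.l) * hk
  have := D.one_le_l
  rcases mul_eq_zero.1 h4 with h5 | h5 <;> omega

/-- An axial group is transitive outside the axis. -/
theorem exists_smul_eq {B : β} {x y : Ω} (hx : x ∉ D.pts B) (hy : y ∉ D.pts B) :
    ∃ t ∈ A.T B, t • x = y := by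
  obtain ⟨C, hC⟩ := D.exists_ne_blk B
  obtain ⟨z, hz⟩ := D.exists_mem B
  obtain ⟨hreg, -, -, -⟩ := A.params hC hz
  have hinj : Set.InjOn (fun t : G => t • x) (A.T B : Set G) := by
    intro s hs t ht e
    refine (inv_mul_eq_one.1 (A.semireg B _ (mul_mem (inv_mem ht) hs) x hx ?_)).symm
    rw [mul_smul, inv_smul_eq_iff]
    exact e
  have heq : (fun t : G => t • x) '' (A.T B : Set G) = (D.pts B)ᶜ := by
    refine Set.eq_of_subset_of_ncard_le ?_ ?_
    · rintro _ ⟨t, ht, rfl⟩ hmem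
      exact hx ((D.smul_mem_iff t (A.smul_axis ht) x).1 hmem)
    · rw [hinj.ncard_image]
      have h1 := Set.ncard_add_ncard_compl (D.pts B)
      have h2 : (A.T B : Set G).ncard = Nat.card (A.T B) := (Nat.card_coe_set_eq _).symm
      rw [D.card_pts] at h1
      omega
  exact heq.ge hy

/-- A block is an orbit of a stabiliser outside the axis. -/
theorem block_eq {B C : β} (hCB : C ≠ B) {x : Ω} (hxC : x ∈ D.pts C) (hx : x ∉ D.pts B) {y : Ω}
    (hy : y ∉ D.pts B) : y ∈ D.pts C ↔ ∃ t ∈ A.stab B C, t • x = y := by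
  obtain ⟨z, hz⟩ := D.exists_mem B
  obtain ⟨-, hstab, -, -⟩ := A.params hCB hz
  have hinj : Set.InjOn (fun t : G => t • x) (A.stab B C : Set G) := by
    intro s hs t ht e
    refine (inv_mul_eq_one.1 (A.semireg B _ (mul_mem (inv_mem ht.1) hs.1) x hx ?_)).symm
    rw [mul_smul, inv_smul_eq_iff]
    exact e
  have heq : (fun t : G => t • x) '' (A.stab B C : Set G) = D.pts C \ D.pts B := by
    refine Set.eq_of_subset_of_ncard_le ?_ ?_
    · rintro _ ⟨t, ⟨ht, htC⟩, rfl⟩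
      exact ⟨(D.smul_mem_iff t htC x).2 hxC, fun hmem =>
        hx ((D.smul_mem_iff t (A.smul_axis ht) x).1 hmem)⟩
    · rw [hinj.ncard_image]
      have h1 := Set.ncard_inter_add_ncard_diff_eq_ncard (D.pts C) (D.pts B) (Set.toFinite _)
      have h2 : (A.stab B C : Set G).ncard = Nat.card (A.stab B C) := (Nat.card_coe_set_eq _).symm
      rw [D.card_pts, D.inter C B hCB] at h1
      omega
  refine ⟨fun h => heq.ge ⟨h, hy⟩, fun h => (heq.le h).1⟩

end Axial

end CfsgLib.ItoDesign
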