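import Mathlib.Algebra.Order.Chebyshev
import Mathlib.Algebra.BigOperators.Ring.Finset
import Mathlib.Data.Fintype.BigOperators
import Mathlib.Tactic.Linarith
import Mathlib.Tactic.Ring
import Mathlib.Tactic.LinearCombination

/-!
# Counting in designs: Fisher's inequality and intersection numbers

An incidence relation between points and blocks with constant block size, constant number of blocks
through a point and through two points, and at most as many blocks as points is a symmetric design.
-/

set_option autoImplicit false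

namespace CfsgLib.ItoDesign

open Finset

variable {Ω β : Type*}

/-- The standing hypotheses of the counting lemmas. -/
structure Counts [Fintype Ω] [Fintype β] (I : Ω → β → Prop) [∀ x, DecidablePred (I x)]
    [∀ C, DecidablePred fun x => I x C] (k r l : ℕ) : Prop where
  blk : ∀ C, (univ.filter fun x => I x C).card = k
  pt : ∀ x, (univ.filter fun C => I x C).card = r
  two : ∀ x y, x ≠ y → (univ.filter fun C => I x C ∧ I y C).card = l
  k_two : 2 ≤ k
  k_lt : k < Fintype.card Ω
  le : Fintype.card β ≤ Fintype.card Ω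
  ne : Nonempty β

variable [Fintype Ω] [Fintype β] {I : Ω → β → Prop} [∀ x, DecidablePred (I x)]
  [∀ C, DecidablePred fun x => I x C] {k r l : ℕ}

theorem Counts.basic (h : Counts I k r l) :
    ((Fintype.card β : ℤ) * k = Fintype.card Ω * r) ∧
      ((l : ℤ) * ((Fintype.card Ω : ℤ) - 1) = r * ((k : ℤ) - 1)) ∧ 1 ≤ r ∧ l < r := by
  classical
  have hflag : (Fintype.card β : ℤ) * k = Fintype.card Ω * r := by
    have hb : ∀ C, ∑ x, (if I x C then (1 : ℤ) else 0) = k := fun C => by
      rw [sum_boole, h.blk]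
    have hp : ∀ x, ∑ C, (if I x C then (1 : ℤ) else 0) = r := fun x => by
      rw [sum_boole, h.pt]
    have := Finset.sum_comm (s := (univ : Finset β)) (t := (univ : Finset Ω))
      (f := fun C x => if I x C then (1 : ℤ) else 0)
    simp only [hb, hp, sum_const, card_univ, nsmul_eq_mul] at this
    exact this
  obtain ⟨C₀⟩ := h.ne
  obtain ⟨x₀, hx₀⟩ : ∃ x, I x C₀ := by
    have : 0 < (univ.filter fun x => I x C₀).card := by have := h.k_two; rw [h.blk]; omega
    obtain ⟨x, hx⟩ := card_pos.1 this
    exact ⟨x, (mem_filter.1 hx).2⟩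
  have hr : 1 ≤ r := by
    rw [← h.pt x₀]
    exact card_pos.2 ⟨C₀, by simp [hx₀]⟩
  have hlam : (l : ℤ) * ((Fintype.card Ω : ℤ) - 1) = r * ((k : ℤ) - 1) := by
    have h1 : ∀ y, ∑ C, (if I x₀ C ∧ I y C then (1 : ℤ) else 0) =
        if y = x₀ then (r : ℤ) else l := by
      intro y
      rw [sum_boole]
      split_ifs with hy
      · subst hy
        simp [h.pt]
      · rw [h.two x₀ y (Ne.symm hy)]
    have h2 : ∀ C, ∑ y, (if I x₀ C ∧ I y C then (1 : ℤ) else 0) =
        if I x₀ C then (k : ℤ) else 0 := by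
      intro C
      rw [sum_boole]
      split_ifs with hC
      · simp [hC, h.blk]
      · simp [hC]
    have := Finset.sum_comm (s := (univ : Finset Ω)) (t := (univ : Finset β))
      (f := fun y C => if I x₀ C ∧ I y C then (1 : ℤ) else 0)
    simp only [h1, h2] at this
    rw [← sum_filter, sum_const, h.pt, nsmul_eq_mul, ← Finset.add_sum_erase univ _ (mem_univ x₀),
      if_pos rfl, sum_congr rfl (fun y hy => if_neg (mem_erase.1 hy).1), sum_const,
      card_erase_of_mem (mem_univ x₀), card_univ, nsmul_eq_mul,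
      Nat.cast_sub (by have := h.k_lt; omega)] at this
    push_cast at this
    linear_combination this
  refine ⟨hflag, hlam, hr, ?_⟩
  by_contra hle
  rw [not_lt] at hle
  have h1 : (r : ℤ) ≤ l := by exact_mod_cast hle
  have h2 : (1 : ℤ) ≤ r := by exact_mod_cast hr
  have h3 : (k : ℤ) + 1 ≤ Fintype.card Ω := by exact_mod_cast h.k_lt
  have h4 : (2 : ℤ) ≤ k := by exact_mod_cast h.k_two
  nlinarith

/-- The design is symmetric and two blocks meet in `l` points. -/
theorem Counts.symmetric (h : Counts I k r l) :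
    r = k ∧ Fintype.card β = Fintype.card Ω ∧
      ∀ C D, C ≠ D → (univ.filter fun x => I x C ∧ I x D).card = l := by
  classical
  obtain ⟨hflag, hlam, hr, hlr⟩ := h.basic
  have hsum : ∀ C₀ : β,
      (∑ D ∈ univ.erase C₀, ((univ.filter fun x => I x C₀ ∧ I x D).card : ℤ) =
        k * ((r : ℤ) - 1)) ∧
      ∑ D ∈ univ.erase C₀, ((univ.filter fun x => I x C₀ ∧ I x D).card : ℤ) ^ 2 =
        k * r + k * ((k : ℤ) - 1) * l - k ^ 2 := by
    intro C₀
    set S := univ.filter fun x => I x C₀ with hS
    have hm : ∀ D, ((univ.filter fun x => I x C₀ ∧ I x D).card : ℤ) =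
        ∑ x ∈ S, if I x D then (1 : ℤ) else 0 := by
      intro D
      rw [sum_boole, hS, filter_filter]
    have hSC : ((univ.filter fun x => I x C₀ ∧ I x C₀).card : ℤ) = k := by
      simp [h.blk]
    have hScard : (S.card : ℤ) = k := by rw [hS, h.blk]
    have t1 : ∑ D, ((univ.filter fun x => I x C₀ ∧ I x D).card : ℤ) = k * r := by
      simp only [hm]
      rw [sum_comm]
      simp only [sum_boole, h.pt, sum_const, nsmul_eq_mul, hScard]
    have t2 : ∑ D, ((univ.filter fun x => I x C₀ ∧ I x D).card : ℤ) ^ 2 =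
        k * r + k * ((k : ℤ) - 1) * l := by
      simp only [hm, sq, Finset.sum_mul_sum]
      rw [sum_comm]
      have : ∀ x ∈ S, ∑ D, ∑ y ∈ S, ((if I x D then (1 : ℤ) else 0) * if I y D then 1 else 0) =
          r + ((k : ℤ) - 1) * l := by
        intro x hx
        rw [sum_comm, ← Finset.add_sum_erase S _ hx]
        have e1 : ∀ y, ∑ D, ((if I x D then (1 : ℤ) else 0) * if I y D then 1 else 0) =
            ((univ.filter fun D => I x D ∧ I y D).card : ℤ) := by
          intro y
          rw [← sum_boole]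
          exact sum_congr rfl fun D _ => by split_ifs <;> simp_all
        simp only [e1, and_self, h.pt]
        rw [sum_congr rfl fun y hy => by rw [h.two x y (Ne.symm (mem_erase.1 hy).1)], sum_const,
          nsmul_eq_mul, card_erase_of_mem hx, Nat.cast_sub (card_pos.2 ⟨x, hx⟩), hScard]
        push_cast
        ring
      rw [sum_congr rfl this, sum_const, nsmul_eq_mul, hScard]
      ring
    constructor
    · rw [sum_erase_eq_sub (mem_univ C₀), t1, hSC]; ring
    · rw [sum_erase_eq_sub (mem_univ C₀), t2, hSC]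
  obtain ⟨C₀⟩ := h.ne
  have hk : (2 : ℤ) ≤ k := by exact_mod_cast h.k_two
  have hkr : k ≤ r := by
    have hch := sq_sum_le_card_mul_sum_sq (s := univ.erase C₀)
      (f := fun D => ((univ.filter fun x => I x C₀ ∧ I x D).card : ℤ))
    rw [(hsum C₀).1, (hsum C₀).2, card_erase_of_mem (mem_univ C₀), card_univ,
      Nat.cast_sub (Fintype.card_pos_iff.2 ⟨C₀⟩)] at hch
    push_cast at hch
    by_contra hlt
    rw [not_le] at hlt
    have h2 : (r : ℤ) < k := by exact_mod_cast hlt
    have h3 : (l : ℤ) < r := by exact_mod_cast hlr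
    have h4 : (0 : ℤ) ≤ l := Int.natCast_nonneg l
    have key : (l : ℤ) * k * (((Fintype.card β : ℤ) - 1) *
          ((k : ℤ) * r + k * ((k : ℤ) - 1) * l - k ^ 2) - (k * ((r : ℤ) - 1)) ^ 2) =
        (k : ℤ) * (((r : ℤ) - k) * ((k : ℤ) - 1) * ((r : ℤ) - l) ^ 2) := by
      linear_combination (l : ℤ) * ((k : ℤ) * r + k * ((k : ℤ) - 1) * l - k ^ 2) * hflag +
        (r : ℤ) * ((k : ℤ) * r + k * ((k : ℤ) - 1) * l - k ^ 2) * hlam
    have h5 : (0 : ℤ) < (k : ℤ) * (((k : ℤ) - r) * ((k : ℤ) - 1) * ((r : ℤ) - l) ^ 2) :=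
      mul_pos (by omega) (mul_pos (mul_pos (by omega) (by omega)) (pow_pos (by omega) 2))
    have h6 : (0 : ℤ) ≤ (l : ℤ) * k * (((Fintype.card β : ℤ) - 1) *
        ((k : ℤ) * r + k * ((k : ℤ) - 1) * l - k ^ 2) - (k * ((r : ℤ) - 1)) ^ 2) :=
      mul_nonneg (mul_nonneg h4 (by omega)) (by linarith)
    nlinarith
  have hle : (Fintype.card β : ℤ) ≤ Fintype.card Ω := by exact_mod_cast h.le
  have hrk : r = k := by
    refine le_antisymm ?_ hkr
    by_contra hlt
    rw [not_le] at hlt
    have h2 : (k : ℤ) < r := by exact_mod_cast hlt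
    have h3 : (k : ℤ) + 1 ≤ Fintype.card Ω := by exact_mod_cast h.k_lt
    nlinarith
  have hbv : Fintype.card β = Fintype.card Ω := by
    have : (Fintype.card β : ℤ) * k = Fintype.card Ω * k := by rw [hflag, hrk]
    exact_mod_cast mul_right_cancel₀ (by omega) this
  refine ⟨hrk, hbv, fun C D hCD => ?_⟩
  have hz : ∑ D ∈ univ.erase C,
      (((univ.filter fun x => I x C ∧ I x D).card : ℤ) - l) ^ 2 = 0 := by
    simp only [sub_sq, sum_add_distrib, sum_sub_distrib, ← Finset.sum_mul, ← Finset.mul_sum,
      (hsum C).1, (hsum C).2, sum_const, card_erase_of_mem (mem_univ C), card_univ, hbv,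
      nsmul_eq_mul]
    rw [Nat.cast_sub (by have := h.k_lt; omega)]
    push_cast
    subst hrk
    linear_combination (l : ℤ) * hlam
  have := (sum_eq_zero_iff_of_nonneg fun x _ => sq_nonneg _).1 hz D
    (mem_erase.2 ⟨hCD.symm, mem_univ D⟩)
  have := pow_eq_zero_iff (n := 2) (by norm_num) |>.1 this
  exact_mod_cast sub_eq_zero.1 this

end CfsgLib.ItoDesign
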