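import Cfsg.Agent.ItoDesign.Count
import Mathlib.GroupTheory.GroupAction.MultipleTransitivity
import Mathlib.GroupTheory.GroupAction.Quotient
import Mathlib.Data.Set.Card

/-!
# The symmetric design of a two-transitive group with an intransitive subgroup of index equal to the degree

If `G` is two-transitive on `Ω` and `H` is a subgroup of index `#Ω` having no fixed point and more
than one orbit, then an orbit of `H` is a block of a symmetric design on which `G` is two-transitive on
points and on blocks and transitive on flags and on antiflags.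
-/

set_option autoImplicit false

namespace CfsgLib.ItoDesign

open MulAction

/-- A symmetric design with a group two-transitive on points and blocks. -/
structure Design (G Ω β : Type*) [Group G] [MulAction G Ω] [MulAction G β] where
  pts : β → Set Ω
  mem_smul : ∀ (g : G) (C : β) (x : Ω), g • x ∈ pts (g • C) ↔ x ∈ pts C
  k : ℕ
  l : ℕ
  two_le_k : 2 ≤ k
  one_le_l : 1 ≤ l
  l_add_two_le : l + 2 ≤ k
  k_add_two_le : k + 2 ≤ Nat.card Ω
  card_eq : Nat.card β = Nat.card Ω
  param : k * (k - 1) = l * (Nat.card Ω - 1)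
  card_pts : ∀ C, (pts C).ncard = k
  inter : ∀ C D, C ≠ D → (pts C ∩ pts D).ncard = l
  through : ∀ x, {C | x ∈ pts C}.ncard = k
  through_two : ∀ x y, x ≠ y → {C | x ∈ pts C ∧ y ∈ pts C}.ncard = l
  fixed_eq : ∀ g : G, (fixedBy β g).ncard = (fixedBy Ω g).ncard
  two_pts : ∀ x y x' y' : Ω, x ≠ y → x' ≠ y' → ∃ g : G, g • x = x' ∧ g • y = y'
  two_blk : ∀ C D C' D' : β, C ≠ D → C' ≠ D' → ∃ g : G, g • C = C' ∧ g • D = D'
  flag : ∀ x C x' C', (x ∈ pts C ↔ x' ∈ pts C') → ∃ g : G, g • x = x' ∧ g • C = C'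

/-- Burnside's lemma for a product of two actions. -/
theorem burnside_prod (G α γ : Type*) [Group G] [Finite G] [MulAction G α] [MulAction G γ]
    [Finite α] [Finite γ] [Fintype G] :
    ∑ g : G, (fixedBy α g).ncard * (fixedBy γ g).ncard =
      Nat.card (orbitRel.Quotient G (α × γ)) * Nat.card G := by
  classical
  haveI := Fintype.ofFinite α
  haveI := Fintype.ofFinite γ
  haveI := Fintype.ofFinite (orbitRel.Quotient G (α × γ))
  rw [Nat.card_eq_fintype_card, Nat.card_eq_fintype_card,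
    ← sum_card_fixedBy_eq_card_orbits_mul_card_group G (α × γ)]
  refine Finset.sum_congr rfl fun g _ => ?_
  rw [← Nat.card_eq_fintype_card, Nat.card_coe_set_eq, ← Set.ncard_prod]
  congr 1
  ext ⟨a, c⟩
  simp [MulAction.mem_fixedBy, Prod.smul_mk, Prod.ext_iff]

section Orbits

variable {G α : Type*} [Group G] [MulAction G α] (P : α → Prop)
  (hP : ∀ (g : G) a, P (g • a) ↔ P a) (htrue : ∃ a, P a) (hfalse : ∃ a, ¬ P a)

include hP htrue hfalse

theorem card_orbits_eq_two (h : ∀ a b, (P a ↔ P b) → ∃ g : G, g • a = b) :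
    Nat.card (orbitRel.Quotient G α) = 2 := by
  classical
  let f : orbitRel.Quotient G α → Bool :=
    Quotient.lift (fun a => decide (P a)) (fun a b hab => by
      obtain ⟨g, rfl⟩ := hab
      simp [hP])
  have hf : Function.Bijective f := by
    refine ⟨fun u v => ?_, fun t => ?_⟩
    · induction u using Quotient.inductionOn with | _ a => ?_
      induction v using Quotient.inductionOn with | _ b => ?_
      intro hab
      refine Quotient.sound ?_
      obtain ⟨g, hg⟩ := h b a (by simpa [f] using hab.symm)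
      exact ⟨g, hg⟩
    · obtain ⟨a, ha⟩ := htrue
      obtain ⟨b, hb⟩ := hfalse
      cases t
      · exact ⟨Quotient.mk'' b, by simp [f, hb]⟩
      · exact ⟨Quotient.mk'' a, by simp [f, ha]⟩
  rw [Nat.card_eq_of_bijective f hf, Nat.card_eq_fintype_card, Fintype.card_bool]

theorem exists_smul_of_card_orbits (h : Nat.card (orbitRel.Quotient G α) = 2) (a b : α)
    (hab : P a ↔ P b) : ∃ g : G, g • a = b := by
  classical
  haveI : Finite (orbitRel.Quotient G α) := Nat.finite_of_card_ne_zero (by omega)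
  let f : orbitRel.Quotient G α → Bool :=
    Quotient.lift (fun a => decide (P a)) (fun a b hab => by
      obtain ⟨g, rfl⟩ := hab
      simp [hP])
  have hsurj : Function.Surjective f := by
    intro t
    obtain ⟨a, ha⟩ := htrue
    obtain ⟨b, hb⟩ := hfalse
    cases t
    · exact ⟨Quotient.mk'' b, by simp [f, hb]⟩
    · exact ⟨Quotient.mk'' a, by simp [f, ha]⟩
  have hinj := ((Nat.bijective_iff_surjective_and_card f).2
    ⟨hsurj, by rw [h, Nat.card_eq_fintype_card, Fintype.card_bool]⟩).1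
  have : (Quotient.mk'' b : orbitRel.Quotient G α) = Quotient.mk'' a := hinj (by simp [f, hab])
  obtain ⟨g, hg⟩ := Quotient.exact this
  exact ⟨g, hg⟩

end Orbits

/-- The design of an intransitive subgroup of index equal to the degree. -/
theorem exists_design {G Ω : Type*} [Group G] [Finite G] [MulAction G Ω] [Finite Ω]
    (h2 : IsMultiplyPretransitive G Ω 2) (H : Subgroup G) (hidx : H.index = Nat.card Ω)
    (hnt : ¬ IsPretransitive H Ω) (hfix : ∀ a : Ω, ∃ h : H, h • a ≠ a) (a : Ω) :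
    ∃ D : Design G Ω (G ⧸ H), D.pts ((1 : G) : G ⧸ H) = orbit H a := by
  classical
  haveI := Fintype.ofFinite Ω
  haveI := Fintype.ofFinite G
  haveI := Fintype.ofFinite (G ⧸ H)
  have hcard : Nat.card (G ⧸ H) = Nat.card Ω := hidx
  haveI : IsPretransitive G Ω := isPretransitive_of_is_two_pretransitive
  have h2' : ∀ {x y x' y' : Ω}, x ≠ y → x' ≠ y' → ∃ g : G, g • x = x' ∧ g • y = y' :=
    fun hxy hxy' => is_two_pretransitive_iff.1 h2 hxy hxy'
  set B : Set Ω := orbit H a with hB
  have hBinv : ∀ (h : G) (_ : h ∈ H) (x : Ω), h • x ∈ B ↔ x ∈ B := by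
    intro h hh x
    constructor
    · rintro ⟨g, hg⟩
      refine ⟨⟨h, hh⟩⁻¹ * g, ?_⟩
      change ((⟨h, hh⟩ : H)⁻¹ * g) • a = x
      rw [mul_smul, inv_smul_eq_iff]
      exact hg
    · rintro ⟨g, rfl⟩
      exact ⟨⟨h, hh⟩ * g, mul_smul (⟨h, hh⟩ : H) g a⟩
  let pts : G ⧸ H → Set Ω := fun C => {x | ∀ g : G, (g : G ⧸ H) = C → g⁻¹ • x ∈ B}
  have hpts : ∀ (g : G) x, x ∈ pts (g : G ⧸ H) ↔ g⁻¹ • x ∈ B := by
    refine fun g x => ⟨fun hx => hx g rfl, fun hx g' hg' => ?_⟩
    have hh : g'⁻¹ * g ∈ H := QuotientGroup.eq.1 hg'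
    have := (hBinv _ hh (g⁻¹ • x)).2 hx
    rwa [← mul_smul, mul_inv_cancel_right] at this
  have hsmul : ∀ (g : G) (C : G ⧸ H) (x : Ω), g • x ∈ pts (g • C) ↔ x ∈ pts C := by
    intro g C x
    induction C using QuotientGroup.induction_on with | _ c => ?_
    rw [MulAction.Quotient.smul_coe, hpts, hpts, smul_eq_mul, mul_inv_rev, ← mul_smul,
      inv_mul_cancel_right]
  let I : Ω → G ⧸ H → Prop := fun x C => x ∈ pts C
  have hI : ∀ (g : G) x C, I (g • x) (g • C) ↔ I x C := fun g x C => hsmul g C x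
  let K := (Finset.univ.filter fun x => I x ((1 : G) : G ⧸ H)).card
  have hblk : ∀ C, (Finset.univ.filter fun x => I x C).card = K := by
    intro C
    obtain ⟨g, rfl⟩ := exists_smul_eq G ((1 : G) : G ⧸ H) C
    exact (Finset.card_equiv (MulAction.toPerm g) fun x => by
      simp only [Finset.mem_filter, Finset.mem_univ, true_and, MulAction.toPerm_apply, hI]).symm
  let R := (Finset.univ.filter fun C => I a C).card
  have hpt : ∀ x, (Finset.univ.filter fun C => I x C).card = R := by
    intro x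
    obtain ⟨g, rfl⟩ := exists_smul_eq G a x
    exact (Finset.card_equiv (MulAction.toPerm g) fun C => by
      simp only [Finset.mem_filter, Finset.mem_univ, true_and, MulAction.toPerm_apply, hI]).symm
  obtain ⟨h₀, hh₀⟩ := hfix a
  let L := (Finset.univ.filter fun C => I (h₀ • a) C ∧ I a C).card
  have htwo : ∀ x y, x ≠ y → (Finset.univ.filter fun C => I x C ∧ I y C).card = L := by
    intro x y hxy
    obtain ⟨g, hgx, hgy⟩ := h2' hh₀ hxy
    subst hgx hgy
    exact (Finset.card_equiv (MulAction.toPerm g) fun C => by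
      simp only [Finset.mem_filter, Finset.mem_univ, true_and, MulAction.toPerm_apply, hI]).symm
  have hpts1 : pts ((1 : G) : G ⧸ H) = B := by
    ext x
    rw [hpts, inv_one, one_smul]
  obtain ⟨b, hb⟩ : ∃ b, b ∉ B := by
    by_contra hall
    push_neg at hall
    refine hnt ⟨fun x y => ?_⟩
    obtain ⟨g, hg⟩ := hall x
    obtain ⟨g', hg'⟩ := hall y
    exact ⟨g' * g⁻¹, by rw [mul_smul, ← hg, inv_smul_smul]; exact hg'⟩
  obtain ⟨h₁, hh₁⟩ := hfix b
  have hKB : K = B.ncard := by
    rw [← hpts1, Set.ncard_eq_toFinset_card']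
    refine congrArg Finset.card ?_
    ext x
    simp [I]
  have haB : a ∈ B := mem_orbit_self a
  have hh₀B : h₀ • a ∈ B := mem_orbit a h₀
  have hh₁B : h₁ • b ∉ B := fun h => hb ((hBinv _ h₁.2 b).1 h)
  have hK2 : 2 ≤ K := by
    rw [hKB]
    exact (Set.one_lt_ncard (Set.toFinite _)).2 ⟨_, hh₀B, _, haB, hh₀⟩
  have hKv : K + 2 ≤ Nat.card Ω := by
    have := Set.ncard_add_ncard_compl B
    have h2 : 2 ≤ Bᶜ.ncard :=
      (Set.one_lt_ncard (Set.toFinite _)).2 ⟨_, hh₁B, _, hb, hh₁⟩
    omega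
  have hc : Fintype.card (G ⧸ H) = Fintype.card Ω := by
    rwa [← Nat.card_eq_fintype_card, ← Nat.card_eq_fintype_card]
  have hcounts : Counts I K R L :=
    { blk := hblk, pt := hpt, two := htwo, k_two := hK2,
      k_lt := by rw [← Nat.card_eq_fintype_card]; omega,
      le := hc.le, ne := ⟨((1 : G) : G ⧸ H)⟩ }
  obtain ⟨-, hlam, -, hLR⟩ := hcounts.basic
  obtain ⟨hRK, -, hint⟩ := hcounts.symmetric
  rw [hRK] at hlam hLR hpt
  rw [← Nat.card_eq_fintype_card] at hlam
  have hL1 : 1 ≤ L := by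
    by_contra hL
    have : L = 0 := by omega
    rw [this] at hlam hLR
    push_cast at hlam
    nlinarith
  have hL2 : L + 2 ≤ K := by
    by_contra hlt
    have hLK : (K : ℤ) - 1 = L := by omega
    rw [hLK] at hlam
    have h3 : (L : ℤ) * (((Nat.card Ω : ℤ) - 1) - K) = 0 := by linear_combination hlam
    rcases mul_eq_zero.1 h3 with h4 | h4 <;> omega
  have hparam : K * (K - 1) = L * (Nat.card Ω - 1) := by
    have : ((K * (K - 1) : ℕ) : ℤ) = ((L * (Nat.card Ω - 1) : ℕ) : ℤ) := by
      rw [Nat.cast_mul, Nat.cast_mul, Nat.cast_sub (by omega), Nat.cast_sub (by omega)]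
      push_cast
      linarith
    exact_mod_cast this
  have hfixed : ∀ g : G, (fixedBy (G ⧸ H) g).ncard = (fixedBy Ω g).ncard := by
    intro g
    have e1 : ∀ x, ∑ C : G ⧸ H, (if I x C ∧ I (g⁻¹ • x) C then (1 : ℤ) else 0) =
        L + if g • x = x then ((K : ℤ) - L) else 0 := by
      intro x
      rw [Finset.sum_boole]
      split_ifs with hx
      · have : g⁻¹ • x = x := inv_smul_eq_iff.2 hx.symm
        simp [this, hpt]
      · rw [htwo x _ fun e => hx (smul_eq_iff_eq_inv_smul _ |>.2 e)]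
        simp
    have e2 : ∀ C, ∑ x : Ω, (if I x C ∧ I (g⁻¹ • x) C then (1 : ℤ) else 0) =
        L + if g • C = C then ((K : ℤ) - L) else 0 := by
      intro C
      rw [Finset.sum_boole]
      have hiff : ∀ x, I (g⁻¹ • x) C ↔ I x (g • C) := fun x => by
        rw [← hI g, smul_inv_smul]
      simp only [hiff]
      split_ifs with hC
      · simp [hC, hblk]
      · rw [hint C _ (Ne.symm hC)]
        simp
    have := Finset.sum_comm (s := (Finset.univ : Finset Ω)) (t := (Finset.univ : Finset (G ⧸ H)))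
      (f := fun x C => if I x C ∧ I (g⁻¹ • x) C then (1 : ℤ) else 0)
    simp only [e1, e2, Finset.sum_add_distrib, Finset.sum_const, Finset.card_univ, hc,
      ← Finset.sum_filter, nsmul_eq_mul, add_right_inj] at this
    have h' := mul_right_cancel₀ (show ((K : ℤ) - L) ≠ 0 by omega) this
    have h'' : (Finset.univ.filter fun x : Ω => g • x = x).card =
        (Finset.univ.filter fun C : G ⧸ H => g • C = C).card := by exact_mod_cast h'
    rw [Set.ncard_eq_toFinset_card', Set.ncard_eq_toFinset_card']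
    convert h''.symm using 2 <;> ext <;> simp
  have hΩΩ : Nat.card (orbitRel.Quotient G (Ω × Ω)) = 2 := by
    refine card_orbits_eq_two (fun p => p.1 = p.2) ?_ ⟨(a, a), rfl⟩
      ⟨(h₀ • a, a), hh₀⟩ ?_
    · intro g p
      exact smul_left_cancel_iff g
    · rintro ⟨x, y⟩ ⟨x', y'⟩ hiff
      by_cases hxy : x = y
      · obtain rfl := hxy
        obtain rfl : x' = y' := hiff.1 rfl
        obtain ⟨g, hg⟩ := exists_smul_eq G x x'
        exact ⟨g, by rw [Prod.smul_mk, hg]⟩
      · obtain ⟨g, hg, hg'⟩ := h2' hxy (fun e => hxy (hiff.2 e))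
        exact ⟨g, by rw [Prod.smul_mk, hg, hg']⟩
  have hGpos : Nat.card G ≠ 0 := Nat.card_pos.ne'
  have hΩβ : Nat.card (orbitRel.Quotient G (Ω × (G ⧸ H))) = 2 := by
    refine mul_right_cancel₀ hGpos ?_
    rw [← burnside_prod, ← hΩΩ, ← burnside_prod]
    simp only [hfixed]
  have hββ : Nat.card (orbitRel.Quotient G ((G ⧸ H) × (G ⧸ H))) = 2 := by
    refine mul_right_cancel₀ hGpos ?_
    rw [← burnside_prod, ← hΩΩ, ← burnside_prod]
    simp only [hfixed]
  have hC1 : ((1 : G) : G ⧸ H) ∈ (Set.univ : Set (G ⧸ H)) := trivial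
  obtain ⟨C₂, hC₂⟩ : ∃ C : G ⧸ H, C ≠ ((1 : G) : G ⧸ H) := by
    haveI : Nontrivial (G ⧸ H) := Finite.one_lt_card_iff_nontrivial.1 (by omega)
    exact exists_ne _
  refine ⟨{ pts := pts, mem_smul := hsmul, k := K, l := L, two_le_k := hK2, one_le_l := hL1
            l_add_two_le := hL2, k_add_two_le := hKv, card_eq := hcard, param := hparam
            card_pts := fun C => ?_, inter := fun C D hCD => ?_, through := fun x => ?_
            through_two := fun x y hxy => ?_, fixed_eq := hfixed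
            two_pts := fun x y x' y' hxy hxy' => h2' hxy hxy'
            two_blk := fun C D C' D' hCD hCD' => ?_, flag := fun x C x' C' hiff => ?_ }, hpts1⟩
  · rw [← hblk C, ← Set.ncard_coe_finset]
    simp [I]
  · rw [← hint C D hCD, ← Set.ncard_coe_finset]
    congr 1
    ext x
    simp [I]
  · rw [← hpt x, ← Set.ncard_coe_finset]
    simp [I]
  · rw [← htwo x y hxy, ← Set.ncard_coe_finset]
    simp [I]
  · obtain ⟨g, hg⟩ := exists_smul_of_card_orbits (fun p : (G ⧸ H) × (G ⧸ H) => p.1 = p.2)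
      (fun g p => smul_left_cancel_iff g) ⟨(C₂, C₂), rfl⟩ ⟨(C₂, _), hC₂⟩ hββ (C, D) (C', D')
      (iff_of_false hCD hCD')
    rw [Prod.smul_mk, Prod.mk.injEq] at hg
    exact ⟨g, hg⟩
  · obtain ⟨g, hg⟩ := exists_smul_of_card_orbits (fun p : Ω × (G ⧸ H) => p.1 ∈ pts p.2)
      (fun g p => hsmul g p.2 p.1) ⟨(a, ((1 : G) : G ⧸ H)), by rw [hpts1]; exact haB⟩
      ⟨(b, ((1 : G) : G ⧸ H)), by rw [hpts1]; exact hb⟩ hΩβ (x, C) (x', C') hiff
    rw [Prod.smul_mk, Prod.mk.injEq] at hg
    exact ⟨g, hg⟩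

end CfsgLib.ItoDesign
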