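import Cfsg.Agent.Classical.Transvections
import Mathlib.LinearAlgebra.Matrix.SchurComplement
import Mathlib.LinearAlgebra.Dual.Lemmas
import Mathlib.LinearAlgebra.Projectivization.Cardinality

/-!
# Elations of a projective space

A permutation of a projective space mapping hyperplanes to hyperplanes which fixes a hyperplane pointwise
and the hyperplanes through one of its points is induced by a transvection.
-/

set_option autoImplicit false

namespace CfsgLib.ItoDesign

open Matrix
open scoped LinearAlgebra.Projectivization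

variable {F : Type*} [Field F] {n : ℕ}

/-- Incidence of a hyperplane (given by a coordinate vector) and a point. -/
def Inc (a p : ℙ F (Fin n → F)) : Prop := a.rep ⬝ᵥ p.rep = 0

theorem inc_mk {a v : Fin n → F} (ha : a ≠ 0) (hv : v ≠ 0) :
    Inc (Projectivization.mk F a ha) (Projectivization.mk F v hv) ↔ a ⬝ᵥ v = 0 := by
  obtain ⟨s, hs⟩ := Projectivization.exists_smul_eq_mk_rep F a ha
  obtain ⟨t, ht⟩ := Projectivization.exists_smul_eq_mk_rep F v hv
  rw [Inc, ← hs, ← ht, Units.smul_def, Units.smul_def, smul_dotProduct, dotProduct_smul,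
    smul_eq_mul, smul_eq_mul]
  simp [s.ne_zero, t.ne_zero]

/-- A candidate elation. -/
structure IsElation (c x : ℙ F (Fin n → F)) (σ : Equiv.Perm (ℙ F (Fin n → F))) : Prop where
  maps : ∀ a, ∃ a', ∀ p, Inc a p ↔ Inc a' (σ p)
  axis : ∀ p, Inc c p → σ p = p
  centre : ∀ a, Inc a x → ∀ p, Inc a p → Inc a (σ p)

theorem exists_smul_of_ker_le {a b : Fin n → F} (ha : a ≠ 0)
    (h : ∀ v, a ⬝ᵥ v = 0 → b ⬝ᵥ v = 0) : ∃ s : F, b = s • a := by
  obtain ⟨i, hi⟩ := Function.ne_iff.1 ha
  rw [Pi.zero_apply] at hi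
  refine ⟨b i / a i, funext fun j => ?_⟩
  have := h (a i • Pi.single j (1 : F) - a j • Pi.single i (1 : F)) (by
    simp [dotProduct_sub, dotProduct_smul]
    ring)
  simp [dotProduct_sub, dotProduct_smul] at this
  rw [Pi.smul_apply, smul_eq_mul]
  field_simp
  linear_combination this

theorem mem_span_of_forall {p' p x : Fin n → F}
    (h : ∀ a : Fin n → F, a ⬝ᵥ p = 0 → a ⬝ᵥ x = 0 → a ⬝ᵥ p' = 0) :
    ∃ α β : F, α • p + β • x = p' := by
  by_contra hne
  obtain ⟨f, hf, hfK⟩ := Submodule.exists_dual_map_eq_bot_of_notMem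
    (p := Submodule.span F ({p, x} : Set (Fin n → F))) (x := p')
    (fun hm => hne (Submodule.mem_span_pair.1 hm)) inferInstance
  have hdot : ∀ v, (fun j => f (Pi.single j (1 : F))) ⬝ᵥ v = f v := by
    intro v
    conv_rhs => rw [pi_eq_sum_univ' v]
    simp [dotProduct, mul_comm]
  have h0 : ∀ v ∈ Submodule.span F ({p, x} : Set (Fin n → F)), f v = 0 := by
    intro v hv
    have : f v ∈ (Submodule.span F ({p, x} : Set (Fin n → F))).map f := Submodule.mem_map_of_mem hv
    rwa [hfK, Submodule.mem_bot] at this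
  refine hf ?_
  rw [← hdot]
  exact h _ (by rw [hdot]; exact h0 _ (Submodule.subset_span (by simp)))
    (by rw [hdot]; exact h0 _ (Submodule.subset_span (by simp)))

/-- The transvection `v ↦ v + t (c ⬝ v) x`. -/
def tvSL (t : F) (x c : Fin n → F) (h : c ⬝ᵥ x = 0) : Matrix.SpecialLinearGroup (Fin n) F :=
  ⟨1 + replicateCol Unit (t • x) * replicateRow Unit c, by
    rw [det_one_add_replicateCol_mul_replicateRow, dotProduct_smul, h, smul_zero, add_zero]⟩

theorem tvSL_smul (t : F) (x c : Fin n → F) (h : c ⬝ᵥ x = 0) (v : Fin n → F) :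
    tvSL t x c h • v = v + (t * (c ⬝ᵥ v)) • x := by
  rw [Matrix.SpecialLinearGroup.smul_def]
  change ((tvSL t x c h : Matrix.SpecialLinearGroup (Fin n) F) : Matrix (Fin n) (Fin n) F) • v = _
  simp only [tvSL, Matrix.smul_eq_mulVec, Matrix.add_mulVec, Matrix.one_mulVec]
  congr 1
  funext i
  simp [Matrix.mulVec, dotProduct, Matrix.mul_apply, Finset.mul_sum]
  rw [Finset.sum_mul]
  exact Finset.sum_congr rfl fun j _ => by ring

theorem tvSL_isElation (t : F) {x c : Fin n → F} (hx : x ≠ 0) (hc : c ≠ 0) (h : c ⬝ᵥ x = 0) :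
    IsElation (Projectivization.mk F c hc) (Projectivization.mk F x hx)
      (MulAction.toPerm (tvSL t x c h)) := by
  refine ⟨fun a => ?_, fun p hp => ?_, fun a ha p hp => ?_⟩
  · induction a using Projectivization.ind with | _ a ha => ?_
    have hne : a - (t * (a ⬝ᵥ x)) • c ≠ 0 := by
      intro e
      have e' := sub_eq_zero.1 e
      have : a ⬝ᵥ x = 0 := by
        conv_lhs => rw [e']
        rw [smul_dotProduct, h, smul_zero]
      rw [this, mul_zero, zero_smul] at e'
      exact ha e'
    refine ⟨Projectivization.mk F _ hne, fun p => ?_⟩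
    induction p using Projectivization.ind with | _ v hv => ?_
    rw [MulAction.toPerm_apply, Projectivization.smul_mk, inc_mk, inc_mk, tvSL_smul]
    simp only [sub_dotProduct, smul_dotProduct, dotProduct_add, dotProduct_smul, h, smul_eq_mul]
    ring_nf
  · induction p using Projectivization.ind with | _ v hv => ?_
    rw [inc_mk] at hp
    simp [MulAction.toPerm_apply, Projectivization.smul_mk, tvSL_smul, hp]
  · induction a using Projectivization.ind with | _ a ha' => ?_
    induction p using Projectivization.ind with | _ v hv => ?_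
    rw [inc_mk] at ha hp
    rw [MulAction.toPerm_apply, Projectivization.smul_mk, inc_mk, tvSL_smul]
    simp [dotProduct_add, dotProduct_smul, ha, hp]

theorem IsElation.mul {c x : ℙ F (Fin n → F)} {σ τ : Equiv.Perm (ℙ F (Fin n → F))}
    (hσ : IsElation c x σ) (hτ : IsElation c x τ) : IsElation c x (σ * τ) := by
  refine ⟨fun a => ?_, fun p hp => ?_, fun a ha p hp => ?_⟩
  · obtain ⟨a', ha'⟩ := hτ.maps a
    obtain ⟨a'', ha''⟩ := hσ.maps a'
    exact ⟨a'', fun p => (ha' p).trans (ha'' (τ p))⟩
  · rw [Equiv.Perm.mul_apply, hτ.axis p hp, hσ.axis p hp]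
  · exact hσ.centre a ha _ (hτ.centre a ha p hp)

/-- An elation fixing a point outside the axis is trivial. -/
theorem IsElation.eq_one (hn : 3 ≤ n) {c x : Fin n → F} (hc : c ≠ 0) (hx : x ≠ 0) (hcx : c ⬝ᵥ x = 0)
    {σ : Equiv.Perm (ℙ F (Fin n → F))}
    (h : IsElation (Projectivization.mk F c hc) (Projectivization.mk F x hx) σ)
    {y : Fin n → F} (hy : y ≠ 0) (hcy : c ⬝ᵥ y ≠ 0)
    (hfix : σ (Projectivization.mk F y hy) = Projectivization.mk F y hy) : σ = 1 := by
  have step : ∀ (y : Fin n → F) (hy : y ≠ 0), c ⬝ᵥ y ≠ 0 →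
      σ (Projectivization.mk F y hy) = Projectivization.mk F y hy →
      ∀ (p : Fin n → F) (hp : p ≠ 0), (∀ α β : F, α • x + β • y ≠ p) →
        σ (Projectivization.mk F p hp) = Projectivization.mk F p hp := by
    intro y hy hcy hfix p hp hindep
    have hyblk : ∀ (a : Fin n → F) (ha : a ≠ 0), a ⬝ᵥ y = 0 → ∀ q,
        Inc (Projectivization.mk F a ha) q → Inc (Projectivization.mk F a ha) (σ q) := by
      intro a ha hay q hq
      obtain ⟨a', ha'⟩ := h.maps (Projectivization.mk F a ha)
      induction a' using Projectivization.ind with | _ b hb => ?_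
      have hby : b ⬝ᵥ y = 0 := by
        rw [← inc_mk hb hy, ← hfix, ← ha', inc_mk]; exact hay
      have hker : ∀ v, a ⬝ᵥ v = 0 → b ⬝ᵥ v = 0 := by
        intro v hv
        set v' := v - (c ⬝ᵥ v / c ⬝ᵥ y) • y with hv'
        have hcv' : c ⬝ᵥ v' = 0 := by
          rw [hv', dotProduct_sub, dotProduct_smul, smul_eq_mul]; field_simp; ring
        have hav' : a ⬝ᵥ v' = 0 := by
          rw [hv', dotProduct_sub, dotProduct_smul, hv, hay, smul_zero, sub_zero]
        have hbv' : b ⬝ᵥ v' = 0 := by
          by_cases h0 : v' = 0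
          · rw [h0, dotProduct_zero]
          rw [← inc_mk hb h0, ← h.axis _ ((inc_mk hc h0).2 hcv'), ← ha', inc_mk]
          exact hav'
        rw [hv', dotProduct_sub, dotProduct_smul, hby, smul_zero, sub_zero] at hbv'
        exact hbv'
      obtain ⟨s, rfl⟩ := exists_smul_of_ker_le ha hker
      have e : Projectivization.mk F a ha = Projectivization.mk F (s • a) hb :=
        ((Projectivization.mk_eq_mk_iff' F _ _ hb ha).2 ⟨s, rfl⟩).symm
      rw [e] at hq ⊢
      exact (ha' q).1 (e ▸ hq)
    obtain ⟨p', hp', hσ⟩ : ∃ (p' : Fin n → F) (hp' : p' ≠ 0),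
        σ (Projectivization.mk F p hp) = Projectivization.mk F p' hp' :=
      ⟨_, (σ (Projectivization.mk F p hp)).rep_nonzero, (Projectivization.mk_rep _).symm⟩
    obtain ⟨α, β, h1⟩ := mem_span_of_forall (p' := p') (p := p) (x := x) (fun a h1 h2 => by
      by_cases ha : a = 0
      · rw [ha, zero_dotProduct]
      have := h.centre _ ((inc_mk ha hx).2 h2) _ ((inc_mk ha hp).2 h1)
      rwa [hσ, inc_mk] at this)
    obtain ⟨γ, δ, h2⟩ := mem_span_of_forall (p' := p') (p := p) (x := y) (fun a h1 h2 => by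
      by_cases ha : a = 0
      · rw [ha, zero_dotProduct]
      have := hyblk a ha h2 _ ((inc_mk ha hp).2 h1)
      rwa [hσ, inc_mk] at this)
    have hγα : γ - α = 0 := by
      by_contra hne
      apply hindep (β / (γ - α)) (-δ / (γ - α))
      have h3 : (γ - α) • p = β • x - δ • y := by
        have := h1.trans h2.symm
        rw [sub_smul]
        linear_combination (norm := module) (-1 : F) • this
      calc (β / (γ - α)) • x + (-δ / (γ - α)) • y = (γ - α)⁻¹ • (β • x - δ • y) := by
            rw [smul_sub, smul_smul, smul_smul, neg_div, neg_smul, ← sub_eq_add_neg,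
              div_eq_inv_mul, div_eq_inv_mul]
        _ = p := by rw [← h3, smul_smul, inv_mul_cancel₀ hne, one_smul]
    have hβδ : β • x = δ • y := by
      have := h1.trans h2.symm
      rw [sub_eq_zero.1 hγα] at this
      exact add_left_cancel this
    have hδ : δ = 0 := by
      have := congrArg (fun v => c ⬝ᵥ v) hβδ
      simp only [dotProduct_smul, hcx, smul_zero, smul_eq_mul, mul_zero] at this
      exact (mul_eq_zero.1 this.symm).resolve_right hcy
    rw [hσ, Projectivization.mk_eq_mk_iff']
    exact ⟨γ, by rw [← h2, hδ, zero_smul, add_zero]⟩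
  ext q
  induction q using Projectivization.ind with | _ p hp => ?_
  rw [Equiv.Perm.one_apply]
  by_cases hcp : c ⬝ᵥ p = 0
  · exact h.axis _ ((inc_mk hc hp).2 hcp)
  by_cases hsp : ∃ α β : F, α • x + β • y = p
  · obtain ⟨α, β, rfl⟩ := hsp
    have hlt : Submodule.span F ({x, y} : Set (Fin n → F)) ≠ ⊤ := by
      intro htop
      have h1 : Module.finrank F (Submodule.span F ({x, y} : Set (Fin n → F))) = n := by
        rw [htop, finrank_top, Module.finrank_fintype_fun_eq_card, Fintype.card_fin]
      classical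
      have h2 := finrank_span_finset_le_card (R := F) ({x, y} : Finset (Fin n → F))
      rw [Finset.coe_pair] at h2
      have h3 : ({x, y} : Finset (Fin n → F)).card ≤ 2 := Finset.card_le_two
      unfold Set.finrank at h2
      omega
    obtain ⟨v, -, hv⟩ := SetLike.exists_of_lt (lt_top_iff_ne_top.2 hlt)
    set w := v - (c ⬝ᵥ v / c ⬝ᵥ y) • y with hw
    have hcw : c ⬝ᵥ w = 0 := by
      rw [hw, dotProduct_sub, dotProduct_smul, smul_eq_mul]; field_simp; ring
    have hwx : ∀ s : F, s • x ≠ w := by
      intro s e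
      exact hv (Submodule.mem_span_pair.2 ⟨s, c ⬝ᵥ v / c ⬝ᵥ y, by rw [e, hw, sub_add_cancel]⟩)
    have hcy1 : c ⬝ᵥ (y + w) ≠ 0 := by rwa [dotProduct_add, hcw, add_zero]
    have hy1 : y + w ≠ 0 := fun e => hcy1 (by rw [e, dotProduct_zero])
    have hfix1 := step y hy hcy hfix (y + w) hy1 (fun a b e => by
      have := congrArg (fun v => c ⬝ᵥ v) e
      simp only [dotProduct_add, dotProduct_smul, hcx, hcw, smul_eq_mul, mul_zero, zero_add,
        add_zero] at this
      have hb : b = 1 := mul_right_cancel₀ hcy (by rw [this, one_mul])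
      rw [hb, one_smul, add_comm] at e
      exact hwx a (add_left_cancel e))
    refine step (y + w) hy1 hcy1 hfix1 _ hp (fun a b e => ?_)
    have := congrArg (fun v => c ⬝ᵥ v) e
    simp only [dotProduct_add, dotProduct_smul, hcx, hcw, smul_eq_mul, mul_zero, zero_add,
      add_zero] at this
    have hb : b = β := mul_right_cancel₀ hcy this
    have hβ : β ≠ 0 := by
      rintro rfl
      exact hcp (by simp [dotProduct_add, dotProduct_smul, hcx])
    rw [hb] at e
    apply hwx ((α - a) / β)
    have h4 : (α - a) • x = β • w := by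
      linear_combination (norm := module) (-1 : F) • e
    rw [div_eq_inv_mul, ← smul_smul, h4, smul_smul, inv_mul_cancel₀ hβ, one_smul]
  · exact step y hy hcy hfix p hp (fun α β e => hsp ⟨α, β, e⟩)

/-- An elation is induced by a transvection. -/
theorem IsElation.exists_tvSL (hn : 3 ≤ n) {c x : Fin n → F} (hc : c ≠ 0) (hx : x ≠ 0)
    (hcx : c ⬝ᵥ x = 0) {σ : Equiv.Perm (ℙ F (Fin n → F))}
    (h : IsElation (Projectivization.mk F c hc) (Projectivization.mk F x hx) σ) :
    ∃ t : F, σ = MulAction.toPerm (tvSL t x c hcx) := by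
  obtain ⟨i, hi⟩ := Function.ne_iff.1 hc
  rw [Pi.zero_apply] at hi
  set y : Fin n → F := Pi.single i 1 with hy_def
  have hy : y ≠ 0 := Pi.single_ne_zero_iff.2 one_ne_zero
  have hcy : c ⬝ᵥ y ≠ 0 := by rwa [hy_def, dotProduct_single, mul_one]
  obtain ⟨p', hp', hσ⟩ : ∃ (p' : Fin n → F) (hp' : p' ≠ 0),
      σ (Projectivization.mk F y hy) = Projectivization.mk F p' hp' :=
    ⟨_, (σ (Projectivization.mk F y hy)).rep_nonzero, (Projectivization.mk_rep _).symm⟩
  obtain ⟨α, β, h1⟩ := mem_span_of_forall (p' := p') (p := y) (x := x) (fun a h1 h2 => by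
    by_cases ha : a = 0
    · rw [ha, zero_dotProduct]
    have := h.centre _ ((inc_mk ha hx).2 h2) _ ((inc_mk ha hy).2 h1)
    rwa [hσ, inc_mk] at this)
  have hα : α ≠ 0 := by
    rintro rfl
    rw [zero_smul, zero_add] at h1
    have hcp' : c ⬝ᵥ p' = 0 := by rw [← h1, dotProduct_smul, hcx, smul_zero]
    have h2 := h.axis _ ((inc_mk hc hp').2 hcp')
    rw [← hσ] at h2
    have h3 := σ.injective h2
    rw [hσ] at h3
    exact hcy ((inc_mk hc hy).1 (by
      rw [← h3]
      exact (inc_mk hc hp').2 hcp'))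
  set t := β / (α * (c ⬝ᵥ y)) with ht
  refine ⟨t, ?_⟩
  have hfix : ((MulAction.toPerm (tvSL (-t) x c hcx) : Equiv.Perm (ℙ F (Fin n → F))) * σ) (Projectivization.mk F y hy) =
      Projectivization.mk F y hy := by
    rw [Equiv.Perm.mul_apply, hσ, MulAction.toPerm_apply, Projectivization.smul_mk,
      Projectivization.mk_eq_mk_iff']
    refine ⟨α, ?_⟩
    rw [tvSL_smul, ← h1]
    simp only [dotProduct_add, dotProduct_smul, hcx, smul_eq_mul, mul_zero, add_zero]
    rw [show -t * (α * c ⬝ᵥ y) = -β by rw [ht]; field_simp]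
    module
  have h2 := IsElation.eq_one hn hc hx hcx ((tvSL_isElation (-t) hx hc hcx).mul h) hy hcy hfix
  ext p
  have h3 := Equiv.ext_iff.1 h2 p
  rw [Equiv.Perm.mul_apply, Equiv.Perm.one_apply, MulAction.toPerm_apply] at h3
  rw [MulAction.toPerm_apply]
  induction hp : σ p using Projectivization.ind with | _ v hv => ?_
  rw [hp, Projectivization.smul_mk] at h3
  conv_rhs => rw [← h3, Projectivization.smul_mk]
  congr 1
  simp only [tvSL_smul, dotProduct_add, dotProduct_smul, hcx, smul_eq_mul, mul_zero, add_zero]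
  module

theorem transvection_eq_tvSL {i j : Fin n} (hij : i ≠ j) (t : F)
    (h : (Pi.single j (1 : F) : Fin n → F) ⬝ᵥ Pi.single i 1 = 0) :
    Matrix.SpecialLinearGroup.transvection hij t = tvSL t (Pi.single i 1) (Pi.single j 1) h := by
  refine Subtype.ext ?_
  rw [CfsgLib.Linear.transvec_coe]
  ext k l
  simp only [tvSL, Matrix.transvection, Matrix.add_apply, Matrix.mul_apply, Finset.univ_unique,
    Finset.sum_singleton, Matrix.replicateCol_apply, Matrix.replicateRow_apply, Pi.smul_apply,
    smul_eq_mul, Matrix.single_apply, Pi.single_apply]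
  split_ifs <;> grind

/-- A set of elations with a full set for each incident pair generates the projective special linear
group. -/
theorem closure_eq_range [Fintype F] (hn : 3 ≤ n) (S : Set (Equiv.Perm (ℙ F (Fin n → F))))
    (hel : ∀ σ ∈ S, ∃ c x, Inc c x ∧ IsElation c x σ)
    (hall : ∀ c x : ℙ F (Fin n → F), Inc c x →
      ∃ f : F → Equiv.Perm (ℙ F (Fin n → F)), Function.Injective f ∧
        ∀ s, f s ∈ S ∧ IsElation c x (f s)) :
    Subgroup.closure S =
      (Projectivization.PSLAction.toPermHom (K := F) (ι := Fin n)).range := by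
  have hmem : ∀ (A : Matrix.SpecialLinearGroup (Fin n) F),
      (MulAction.toPerm A : Equiv.Perm (ℙ F (Fin n → F))) ∈
        (Projectivization.PSLAction.toPermHom (K := F) (ι := Fin n)).range :=
    fun A => ⟨(A : Matrix.ProjectiveSpecialLinearGroup (Fin n) F), rfl⟩
  refine le_antisymm ((Subgroup.closure_le _).2 fun σ hσ => ?_) ?_
  · obtain ⟨c, x, hcx, he⟩ := hel σ hσ
    induction c using Projectivization.ind with | _ c hc => ?_
    induction x using Projectivization.ind with | _ x hx => ?_
    rw [inc_mk] at hcx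
    obtain ⟨t, rfl⟩ := he.exists_tvSL hn hc hx hcx
    exact hmem _
  · rintro _ ⟨g, rfl⟩
    obtain ⟨A, rfl⟩ := QuotientGroup.mk_surjective g
    haveI : Nontrivial (Fin n) := Fin.nontrivial_iff_two_le.2 (by omega)
    refine CfsgLib.Linear.transvection_induction (fun A : Matrix.SpecialLinearGroup (Fin n) F =>
      Projectivization.PSLAction.toPermHom (K := F) (ι := Fin n)
        (A : Matrix.ProjectiveSpecialLinearGroup (Fin n) F) ∈ Subgroup.closure S) ?_
      (fun A B hA hB => by
        show Projectivization.PSLAction.toPermHom _ ∈ _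
        rw [QuotientGroup.mk_mul, map_mul]
        exact mul_mem hA hB) A
    intro i j hij t
    have hdot : (Pi.single j (1 : F) : Fin n → F) ⬝ᵥ Pi.single i 1 = 0 := by
      simp [single_dotProduct, hij.symm]
    have hi : (Pi.single i (1 : F) : Fin n → F) ≠ 0 := Pi.single_ne_zero_iff.2 one_ne_zero
    have hj : (Pi.single j (1 : F) : Fin n → F) ≠ 0 := Pi.single_ne_zero_iff.2 one_ne_zero
    obtain ⟨f, hf, hfs⟩ := hall _ _ ((inc_mk hj hi).2 hdot)
    choose τ hτ using fun s => (hfs s).2.exists_tvSL hn hj hi hdot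
    have hτi : Function.Injective τ := fun a b e => hf (by rw [hτ a, hτ b, e])
    obtain ⟨s, rfl⟩ := (Finite.injective_iff_surjective.1 hτi) t
    have h1 := (hfs s).1
    rw [hτ s, ← transvection_eq_tvSL hij] at h1
    exact Subgroup.subset_closure h1

end CfsgLib.ItoDesign
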