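import Cfsg.Agent.LocalB.SpreadCoords
import Mathlib.Data.Fintype.Pi
import Mathlib.Algebra.Module.Pi
import Mathlib.Tactic.Abel

/-!
# Coordinates for a spread with shears

A finite group of exponent `p` with a partition into at least two subgroups of one order, such that for
any two of them the maps from one to the other whose graph is a member form a group of full order, is a
vector space whose lines are the members.
-/

set_option autoImplicit false

namespace CfsgLib.ItoDesign

variable {ι V : Type*} [AddCommGroup V] (E : ι → AddSubgroup V)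

/-- The graph of the map is one of the components. -/
def IsGraph {i j : ι} (f : E j →+ E i) : Prop := ∃ l, ∀ y : E j, (y : V) + f y ∈ E l

/-- The standing hypotheses on a spread. -/
structure Spread (p : ℕ) : Prop where
  cover : ∀ v : V, v ≠ 0 → ∃ i, v ∈ E i
  disj : ∀ i j, i ≠ j → ∀ v, v ∈ E i → v ∈ E j → v = 0
  card : ∀ i j, Nat.card (E i) = Nat.card (E j)
  nontriv : ∀ i, Nontrivial (E i)
  two : ∀ i : ι, ∃ j, j ≠ i
  exp : ∀ v : V, p • v = 0
  shear : ∀ i j, i ≠ j → ∃ S : AddSubgroup (E j →+ E i),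
    Nat.card S = Nat.card (E i) ∧ ∀ f ∈ S, IsGraph E f

variable {E} {p : ℕ}

theorem isGraph_zero {i j : ι} : IsGraph E (0 : E j →+ E i) :=
  ⟨j, fun y => by simp⟩

theorem Spread.eq_of_mem (H : Spread E p) {i j : ι} {v : V} (hi : v ∈ E i) (hj : v ∈ E j)
    (hv : v ≠ 0) : i = j := by
  by_contra h
  exact hv (H.disj i j h v hi hj)

theorem Spread.graph_eq (H : Spread E p) {i j : ι} (hij : i ≠ j) {f g : E j →+ E i}
    (hf : IsGraph E f) (hg : IsGraph E g) {y : E j} (hy : y ≠ 0) (h : f y = g y) : f = g := by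
  obtain ⟨l, hl⟩ := hf
  obtain ⟨l', hl'⟩ := hg
  have hne : (y : V) + f y ≠ 0 := by
    intro e
    refine hy (Subtype.ext (H.disj j i hij.symm _ y.2 ?_))
    rw [eq_neg_of_add_eq_zero_left e]
    exact neg_mem (f y).2
  have hll : l = l' := H.eq_of_mem (hl y) (h ▸ hl' y) hne
  subst hll
  have hli : l ≠ i := by
    rintro rfl
    refine hy (Subtype.ext (H.disj j l hij.symm _ y.2 ?_))
    exact ((E l).add_mem_cancel_right (f y).2).1 (hl y)
  ext x
  refine sub_eq_zero.1 (H.disj l i hli _ ?_ (sub_mem (f x).2 (g x).2))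
  have := sub_mem (hl x) (hl' x)
  rwa [add_sub_add_left_eq_sub] at this

theorem Spread.exists_group [Finite V] (H : Spread E p) {i j : ι} (hij : i ≠ j) :
    ∃ S : AddSubgroup (E j →+ E i), Nat.card S = Nat.card (E i) ∧ (∀ f, f ∈ S ↔ IsGraph E f) ∧
      ∀ y : E j, y ≠ 0 → ∀ x : E i, ∃ f ∈ S, f y = x := by
  obtain ⟨S, hc, hS⟩ := H.shear i j hij
  haveI : Finite S := Nat.finite_of_card_ne_zero (by rw [hc]; exact Nat.card_pos.ne')
  have hev : ∀ y : E j, y ≠ 0 → ∀ x : E i, ∃ f ∈ S, f y = x := by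
    intro y hy x
    have hb : Function.Bijective (fun f : S => (f : E j →+ E i) y) :=
      (Nat.bijective_iff_injective_and_card _).2
        ⟨fun f g h => Subtype.ext (H.graph_eq hij (hS _ f.2) (hS _ g.2) hy h), hc⟩
    obtain ⟨f, hf⟩ := hb.2 x
    exact ⟨f, f.2, hf⟩
  refine ⟨S, hc, fun f => ⟨hS f, fun hf => ?_⟩, hev⟩
  haveI := H.nontriv j
  obtain ⟨y, hy⟩ := exists_ne (0 : E j)
  obtain ⟨g, hg, hgy⟩ := hev y hy (f y)
  exact H.graph_eq hij hf (hS g hg) hy hgy.symm ▸ hg

theorem Spread.neg_graph [Finite V] (H : Spread E p) {i j : ι} (hij : i ≠ j) {f : E j →+ E i}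
    (hf : IsGraph E f) : IsGraph E (-f) := by
  obtain ⟨S, -, hS, -⟩ := H.exists_group hij
  exact (hS _).1 (S.neg_mem ((hS _).2 hf))

/-- The span of two components is a union of components. -/
theorem Spread.comp_mem [Finite V] (H : Spread E p) {i j : ι} (hij : i ≠ j) {x y : V} (hx : x ∈ E i)
    (hy : y ∈ E j) (hne : x + y ≠ 0) {l : ι} (hl : x + y ∈ E l) {w : V} (hw : w ∈ E l) :
    ∃ x' ∈ E i, ∃ y' ∈ E j, w = x' + y' := by
  by_cases hy0 : y = 0
  · subst hy0
    rw [add_zero] at hne hl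
    obtain rfl := H.eq_of_mem hx hl hne
    exact ⟨w, hw, 0, zero_mem _, (add_zero w).symm⟩
  obtain ⟨S, -, hS, hev⟩ := H.exists_group hij
  obtain ⟨f, hf, hfy⟩ := hev ⟨y, hy⟩ (fun e => hy0 (congrArg Subtype.val e)) ⟨x, hx⟩
  obtain ⟨l', hl'⟩ := (hS f).1 hf
  have h1 := hl' ⟨y, hy⟩
  rw [hfy] at h1
  obtain rfl : l' = l := H.eq_of_mem (by rwa [add_comm] at h1) hl hne
  have hb : Function.Bijective (fun z : E j => (⟨(z : V) + f z, hl' z⟩ : E l')) := by
    refine (Nat.bijective_iff_injective_and_card _).2 ⟨fun z z' h => ?_, H.card j l'⟩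
    refine sub_eq_zero.1 (Subtype.ext (H.disj j i hij.symm _ (z - z').2 ?_))
    have h2 : (z : V) + f z = z' + f z' := congrArg Subtype.val h
    have h3 : ((z - z' : E j) : V) = (f z' : V) - f z := by
      rw [AddSubgroupClass.coe_sub, sub_eq_sub_iff_add_eq_add, h2, add_comm]
    rw [h3]
    exact sub_mem (f z').2 (f z).2
  obtain ⟨z, hz⟩ := hb.2 ⟨w, hw⟩
  exact ⟨f z, (f z).2, z, z.2, (congrArg Subtype.val hz).symm.trans (add_comm _ _)⟩

/-- Three components form a direct sum. -/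
def Indep (i j l : ι) (E : ι → AddSubgroup V) : Prop :=
  ∀ x ∈ E i, ∀ y ∈ E j, ∀ z ∈ E l, x + y + z = 0 → x = 0 ∧ y = 0 ∧ z = 0

theorem Indep.ne₁₂ {i j l : ι} (h : Indep i j l E) (H : Spread E p) : i ≠ j := by
  rintro rfl
  haveI := H.nontriv i
  obtain ⟨v, hv⟩ := exists_ne (0 : E i)
  exact hv (Subtype.ext (h v v.2 (-v) (neg_mem v.2) 0 (zero_mem _) (by simp)).1)

theorem Indep.ne₂₃ {i j l : ι} (h : Indep i j l E) (H : Spread E p) : j ≠ l := by
  rintro rfl
  haveI := H.nontriv j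
  obtain ⟨v, hv⟩ := exists_ne (0 : E j)
  exact hv (Subtype.ext (h 0 (zero_mem _) v v.2 (-v) (neg_mem v.2) (by simp)).2.1)

theorem Indep.ne₁₃ {i j l : ι} (h : Indep i j l E) (H : Spread E p) : i ≠ l := by
  rintro rfl
  haveI := H.nontriv i
  obtain ⟨v, hv⟩ := exists_ne (0 : E i)
  exact hv (Subtype.ext (h v v.2 0 (zero_mem _) (-v) (neg_mem v.2) (by simp)).1)

/-- Composition of two graph maps. -/
theorem Spread.comp_graph [Finite V] (H : Spread E p) {i j l : ι} (h : Indep i j l E)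
    {f : E j →+ E i} {g : E l →+ E j} (hf : IsGraph E f) (hg : IsGraph E g) :
    IsGraph E (f.comp g) := by
  by_cases hg0 : g = 0
  · subst hg0; rw [AddMonoidHom.comp_zero]; exact isGraph_zero
  haveI := H.nontriv l
  obtain ⟨z₀, hz₀⟩ := exists_ne (0 : E l)
  obtain ⟨S, -, hS, hev⟩ := H.exists_group (h.ne₁₃ H)
  obtain ⟨k, hk, hkz⟩ := hev z₀ hz₀ (f (g z₀))
  obtain ⟨L, hL⟩ := (hS k).1 hk
  obtain ⟨a, ha⟩ := H.neg_graph (h.ne₂₃ H) hg
  obtain ⟨b, hb⟩ := hf
  have hsum : ((z₀ : V) + (-g) z₀) + ((g z₀ : V) + f (g z₀)) = z₀ + k z₀ := by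
    rw [hkz]; simp only [AddMonoidHom.neg_apply, AddSubgroup.coe_neg]; abel
  have hne : (z₀ : V) + k z₀ ≠ 0 := by
    intro e
    exact hz₀ (Subtype.ext (h (k z₀) (k z₀).2 0 (zero_mem _) z₀ z₀.2
      (by rw [add_zero, add_comm]; exact e)).2.2)
  have hab : a ≠ b := by
    rintro rfl
    have hgz : g z₀ ≠ 0 := fun e => hg0 (H.graph_eq (h.ne₂₃ H) hg isGraph_zero hz₀ e)
    have h1 := ha z₀
    have h2 := hb (g z₀)
    by_cases h0 : (g z₀ : V) + f (g z₀) = 0
    · exact hgz (Subtype.ext (h (f (g z₀)) (f (g z₀)).2 (g z₀) (g z₀).2 0 (zero_mem _)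
        (by rw [add_zero, add_comm]; exact h0)).2.1)
    · obtain ⟨x', hx', y', hy', he⟩ := H.comp_mem (h.ne₁₂ H) (x := f (g z₀)) (y := g z₀)
        (f (g z₀)).2 (g z₀).2 (by rwa [add_comm]) (l := a) (by rwa [add_comm]) h1
      exact hz₀ (Subtype.ext (h (-x') (neg_mem hx') ((-g) z₀ - y') (sub_mem ((-g) z₀).2 hy') z₀ z₀.2
        (by rw [show -x' + (((-g) z₀ : V) - y') + z₀ = (z₀ + (-g) z₀) - (x' + y') by abel, he, sub_self])).2.2)
  have hkfg : k = f.comp g := by
    ext z
    obtain ⟨u, hu, w, hw, he⟩ := H.comp_mem hab (ha z₀) (hb (g z₀)) (hsum ▸ hne)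
      (hsum ▸ hL z₀) (hL z)
    -- `u` lies on the graph of `-g` and `w` on that of `f`
    have hua : ∃ z' : E l, u = (z' : V) + (-g) z' := by
      have hbij : Function.Bijective
          (fun z' : E l => (⟨(z' : V) + (-g) z', ha z'⟩ : E a)) := by
        refine (Nat.bijective_iff_injective_and_card _).2 ⟨fun z' z'' hh => ?_, H.card l a⟩
        have h2 : (z' : V) + (-g) z' = z'' + (-g) z'' := congrArg Subtype.val hh
        refine sub_eq_zero.1 (Subtype.ext (h 0 (zero_mem _) (((-g) z' : V) - (-g) z'')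
          (sub_mem ((-g) z').2 ((-g) z'').2) _ (z' - z'').2 ?_).2.2)
        rw [AddSubgroupClass.coe_sub, zero_add,
          show ((-g) z' : V) - (-g) z'' + ((z' : V) - z'') =
            ((z' : V) + (-g) z') - (z'' + (-g) z'') by abel, h2, sub_self]
      obtain ⟨z', hz'⟩ := hbij.2 ⟨u, hu⟩
      exact ⟨z', (congrArg Subtype.val hz').symm⟩
    have hwb : ∃ y : E j, w = (y : V) + f y := by
      have hbij : Function.Bijective (fun y : E j => (⟨(y : V) + f y, hb y⟩ : E b)) := by
        refine (Nat.bijective_iff_injective_and_card _).2 ⟨fun y y' hh => ?_, H.card j b⟩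
        have h2 : (y : V) + f y = y' + f y' := congrArg Subtype.val hh
        refine sub_eq_zero.1 (Subtype.ext (h ((f y : V) - f y') (sub_mem (f y).2 (f y').2) _
          (y - y').2 0 (zero_mem _) ?_).2.1)
        rw [AddSubgroupClass.coe_sub, add_zero,
          show (f y : V) - f y' + ((y : V) - y') = ((y : V) + f y) - (y' + f y') by abel, h2,
          sub_self]
      obtain ⟨y, hy⟩ := hbij.2 ⟨w, hw⟩
      exact ⟨y, (congrArg Subtype.val hy).symm⟩
    obtain ⟨z', rfl⟩ := hua
    obtain ⟨y, rfl⟩ := hwb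
    obtain ⟨e1, e2, e3⟩ := h ((k z : V) - f y) (sub_mem (k z).2 (f y).2) (-((-g) z' : V) - y)
      (sub_mem (neg_mem ((-g) z').2) y.2) ((z : V) - z') (sub_mem z.2 z'.2) (by
        rw [show (k z : V) - f y + (-((-g) z' : V) - y) + ((z : V) - z') =
          ((z : V) + k z) - ((z' + (-g) z') + (y + f y)) by abel, he, sub_self])
    rw [AddMonoidHom.neg_apply, AddSubgroup.coe_neg, neg_neg, sub_eq_zero] at e2
    obtain rfl : z = z' := Subtype.ext (sub_eq_zero.1 e3)
    obtain rfl : g z = y := Subtype.ext e2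
    exact sub_eq_zero.1 e1
  exact hkfg ▸ ⟨L, hL⟩

/-- A nonzero graph map is bijective and its inverse is a graph map. -/
theorem Spread.inv_graph [Finite V] (H : Spread E p) {i j : ι} (hij : i ≠ j) {f : E j →+ E i}
    (hf : IsGraph E f) (h0 : f ≠ 0) :
    ∃ e : E j ≃+ E i, (∀ y, e y = f y) ∧ IsGraph E e.symm.toAddMonoidHom := by
  have hinj : Function.Injective f := by
    rw [injective_iff_map_eq_zero]
    intro y hy
    by_contra hy0
    exact h0 (H.graph_eq hij hf isGraph_zero hy0 hy)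
  have hb : Function.Bijective f :=
    (Nat.bijective_iff_injective_and_card f).2 ⟨hinj, H.card j i⟩
  refine ⟨AddEquiv.ofBijective f hb, fun y => rfl, ?_⟩
  obtain ⟨l, hl⟩ := hf
  refine ⟨l, fun x => ?_⟩
  have := hl ((AddEquiv.ofBijective f hb).symm x)
  rw [show f ((AddEquiv.ofBijective f hb).symm x) = x from
    (AddEquiv.ofBijective f hb).apply_symm_apply x, add_comm] at this
  exact this

/-- A component containing an injective image of a set of its own order is that image. -/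
theorem mem_iff_of_image [Finite V] {F : Type*} [AddCommGroup F] {l : ι} (θ : F →+ V)
    (hinj : Function.Injective θ) (hmem : ∀ s, θ s ∈ E l) (hc : Nat.card F = Nat.card (E l))
    (v : V) : v ∈ E l ↔ ∃ s, θ s = v := by
  refine ⟨fun hv => ?_, fun ⟨s, hs⟩ => hs ▸ hmem s⟩
  have hb : Function.Bijective (fun s => (⟨θ s, hmem s⟩ : E l)) :=
    (Nat.bijective_iff_injective_and_card _).2
      ⟨fun a b h => hinj (congrArg Subtype.val h), hc⟩
  obtain ⟨s, hs⟩ := hb.2 ⟨v, hv⟩
  exact ⟨s, congrArg Subtype.val hs⟩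

/-- Coordinates for a spread with shears. -/
theorem Spread.exists_coords [Finite V] [Fact p.Prime] (H : Spread E p) [Nonempty ι] :
    ∃ (F : Type) (_ : Field F) (_ : Fintype F) (m : ℕ) (φ : (Fin m → F) ≃+ V), 2 ≤ m ∧
      (∀ i, Nat.card (E i) = Fintype.card F) ∧
      ∀ c : Fin m → F, c ≠ 0 → ∃ l, ∀ v, v ∈ E l ↔ ∃ s : F, φ (s • c) = v := by
  classical
  obtain ⟨i0⟩ := ‹Nonempty ι›
  obtain ⟨i1, h10⟩ := H.two i0
  haveI := H.nontriv i0
  obtain ⟨S, hSc, hS, -⟩ := H.exists_group h10.symm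
  obtain ⟨T, -, hT, -⟩ := H.exists_group h10
  have hP : CfsgLib.SpreadField.Pair p S T := by
    refine ⟨fun x => Subtype.ext (by simpa using H.exp x), fun s hs hs0 => ?_, hSc, fun s hs hs0 => ?_,
      fun t ht ht0 => ?_⟩
    · obtain ⟨e, he, -⟩ := H.inv_graph h10.symm ((hS s).1 hs) hs0
      rw [show (s : E i1 → E i0) = e from funext fun y => (he y).symm]
      exact e.bijective
    · obtain ⟨e, he, hg⟩ := H.inv_graph h10.symm ((hS s).1 hs) hs0
      exact ⟨_, (hT _).2 hg, fun x => by rw [← he]; exact e.symm_apply_apply x⟩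
    · obtain ⟨e, he, hg⟩ := H.inv_graph h10 ((hT t).1 ht) ht0
      exact ⟨_, (hS _).2 hg, fun x => by rw [← he]; exact e.symm_apply_apply x⟩
  obtain ⟨F, iF, iFi, e0, e1, hcF, hS1, hS2, -, hT2⟩ := hP.exists_coords
  have hcE : ∀ l, Nat.card F = Nat.card (E l) := fun l => by
    rw [Nat.card_eq_fintype_card, hcF]; exact H.card i0 l
  -- coordinates on a growing union of components
  let Good : ∀ m, ((Fin m → F) →+ V) → Prop := fun m φ => Function.Injective φ ∧
    (∃ c0, ∀ a, φ (a • c0) = (e0 a : V)) ∧ (∃ c1, ∀ a, φ (a • c1) = (e1 a : V)) ∧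
    ∀ c, c ≠ 0 → ∃ l, ∀ v, v ∈ E l ↔ ∃ s : F, φ (s • c) = v
  have hbase : ∃ φ, Good 2 φ := by
    let φ : (Fin 2 → F) →+ V :=
      { toFun := fun c => (e0 (c 0) : V) + e1 (c 1)
        map_zero' := by simp
        map_add' := fun a b => by
          simp only [Pi.add_apply, map_add, AddSubgroup.coe_add]; abel }
    have hφ : ∀ c, φ c = (e0 (c 0) : V) + e1 (c 1) := fun c => rfl
    have hinj : Function.Injective φ := by
      rw [injective_iff_map_eq_zero]
      intro c hc
      rw [hφ] at hc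
      have h1 : (e1 (c 1) : V) = 0 := H.disj i1 i0 h10 _ (e1 (c 1)).2
        (by rw [eq_neg_of_add_eq_zero_right hc]; exact neg_mem (e0 (c 0)).2)
      rw [h1, add_zero] at hc
      funext k
      fin_cases k
      · exact e0.map_eq_zero_iff.1 (Subtype.ext hc)
      · exact e1.map_eq_zero_iff.1 (Subtype.ext h1)
    refine ⟨φ, hinj, ⟨![1, 0], fun a => by simp [hφ]⟩, ⟨![0, 1], fun a => by simp [hφ]⟩,
      fun c hc => ?_⟩
    let θ : F →+ V := φ.comp
      { toFun := fun s => s • c
        map_zero' := zero_smul F c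
        map_add' := fun s t => add_smul s t c }
    have hθi : Function.Injective θ := hinj.comp (fun s t (h : s • c = t • c) =>
      sub_eq_zero.1 ((smul_eq_zero.1 (by rw [sub_smul, h, sub_self] : (s - t) • c = 0)).resolve_right hc))
    by_cases h1 : c 1 = 0
    · exact ⟨i0, mem_iff_of_image θ hθi (fun s => by
        show φ (s • c) ∈ E i0
        rw [hφ]; simp [h1]) (hcE i0)⟩
    · obtain ⟨f, hf, hfe⟩ := hS2 (c 0 / c 1)
      obtain ⟨l, hl⟩ := (hS f).1 hf
      refine ⟨l, mem_iff_of_image θ hθi (fun s => ?_) (hcE l)⟩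
      show φ (s • c) ∈ E l
      have h2 := hl (e1 (s * c 1))
      rw [hfe] at h2
      rw [hφ, Pi.smul_apply, Pi.smul_apply, smul_eq_mul, smul_eq_mul, add_comm]
      rwa [show c 0 / c 1 * (s * c 1) = s * c 0 by field_simp] at h2
  have hstep : ∀ m (φ : (Fin m → F) →+ V), Good m φ → ¬ Function.Surjective φ →
      ∃ φ', Good (m + 1) φ' := by
    intro m φ hgood hns
    obtain ⟨hinj, ⟨c0, hc0⟩, ⟨c1, hc1⟩, hline⟩ := hgood
    obtain ⟨v, hv⟩ : ∃ v, ∀ c, φ c ≠ v := by
      simp only [Function.Surjective, not_forall, not_exists] at hns; exact hns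
    obtain ⟨j, hj⟩ := H.cover v (fun e => hv 0 (by rw [map_zero, e]))
    have hdisj : ∀ w ∈ E j, ∀ c, φ c = w → w = 0 := by
      intro w hw c hcw
      by_contra hw0
      obtain ⟨l, hl⟩ := hline c (fun e => hw0 (by rw [← hcw, e, map_zero]))
      obtain rfl : l = j := H.eq_of_mem ((hl w).2 ⟨1, by rw [one_smul]; exact hcw⟩) hw hw0
      obtain ⟨s, hs⟩ := (hl v).1 hj
      exact hv _ hs
    have hindep : ∀ l l' : ι, l ≠ l' → (∀ x ∈ E l, ∃ c, φ c = x) → (∀ x ∈ E l', ∃ c, φ c = x) →
        Indep j l l' E := by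
      intro l l' hll hl hl' x hx y hy z hz hsum
      obtain ⟨a, rfl⟩ := hl y hy
      obtain ⟨b, rfl⟩ := hl' z hz
      obtain rfl : x = 0 := hdisj x hx (-(a + b)) (by
        rw [map_neg, map_add]
        exact (eq_neg_of_add_eq_zero_left (by rwa [add_assoc] at hsum)).symm)
      rw [zero_add] at hsum
      have h1 : φ a = 0 := H.disj l l' hll _ hy (by
        rw [eq_neg_of_add_eq_zero_left hsum]; exact neg_mem hz)
      rw [h1, zero_add] at hsum
      exact ⟨rfl, h1, hsum⟩
    have hr0 : ∀ x ∈ E i0, ∃ c, φ c = x := fun x hx =>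
      ⟨e0.symm ⟨x, hx⟩ • c0, by rw [hc0, AddEquiv.apply_symm_apply]⟩
    have hr1 : ∀ x ∈ E i1, ∃ c, φ c = x := fun x hx =>
      ⟨e1.symm ⟨x, hx⟩ • c1, by rw [hc1, AddEquiv.apply_symm_apply]⟩
    have hI := hindep i1 i0 h10 hr1 hr0
    -- coordinates on the new component
    obtain ⟨U, -, hU, hevU⟩ := H.exists_group (hI.ne₁₂ H).symm
    haveI := H.nontriv j
    obtain ⟨y0, hy0⟩ := exists_ne (0 : E j)
    haveI := H.nontriv i1
    obtain ⟨x0, hx0⟩ := exists_ne (0 : E i1)
    obtain ⟨g, hg, hgy⟩ := hevU y0 hy0 x0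
    obtain ⟨ge, -, hgsymm⟩ := H.inv_graph (hI.ne₁₂ H).symm ((hU g).1 hg) (by
      rintro rfl
      exact hx0 hgy.symm)
    let ej : F ≃+ E j := e1.trans ge.symm
    have hmap : ∀ a : F, ∃ f : E i0 →+ E j, IsGraph E f ∧ ∀ y, f (e0 y) = ej (a * y) := by
      intro a
      obtain ⟨t, ht, hte⟩ := hT2 a
      refine ⟨ge.symm.toAddMonoidHom.comp t, H.comp_graph hI hgsymm ((hT t).1 ht), fun y => ?_⟩
      simp [ej, hte]
    let φ' : (Fin (m + 1) → F) →+ V :=
      { toFun := fun c => φ (fun k => c k.castSucc) + ej (c (Fin.last m))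
        map_zero' := by
          simp only [Pi.zero_apply, map_zero, AddSubgroup.coe_zero, add_zero]
          exact map_zero φ
        map_add' := fun a b => by
          simp only [Pi.add_apply, map_add, AddSubgroup.coe_add]
          rw [show (fun k : Fin m => a k.castSucc + b k.castSucc) =
            (fun k : Fin m => a k.castSucc) + (fun k : Fin m => b k.castSucc) from rfl, map_add]
          abel }
    have hφ' : ∀ c, φ' c = φ (fun k => c k.castSucc) + ej (c (Fin.last m)) := fun c => rfl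
    have hinj' : Function.Injective φ' := by
      rw [injective_iff_map_eq_zero]
      intro c hc
      rw [hφ'] at hc
      have h1 : (ej (c (Fin.last m)) : V) = 0 := hdisj _ (ej _).2 (-(fun k => c k.castSucc)) (by
        rw [map_neg]; exact (eq_neg_of_add_eq_zero_right hc).symm)
      rw [h1, add_zero] at hc
      have h2 := hinj (hc.trans (map_zero φ).symm)
      funext k
      induction k using Fin.lastCases with
      | last => exact ej.map_eq_zero_iff.1 (Subtype.ext h1)
      | cast k => exact congrFun h2 k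
    refine ⟨φ', hinj', ⟨Fin.snoc c0 0, fun a => ?_⟩, ⟨Fin.snoc c1 0, fun a => ?_⟩, fun c hc => ?_⟩
    · rw [hφ']
      simp only [Pi.smul_apply, Fin.snoc_castSucc, Fin.snoc_last, smul_zero, map_zero,
        AddSubgroup.coe_zero, add_zero]
      exact hc0 a
    · rw [hφ']
      simp only [Pi.smul_apply, Fin.snoc_castSucc, Fin.snoc_last, smul_zero, map_zero,
        AddSubgroup.coe_zero, add_zero]
      exact hc1 a
    let θ : F →+ V := φ'.comp
      { toFun := fun s => s • c
        map_zero' := zero_smul F c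
        map_add' := fun s t => add_smul s t c }
    have hθi : Function.Injective θ := hinj'.comp (fun s t (h : s • c = t • c) =>
      sub_eq_zero.1 ((smul_eq_zero.1 (by rw [sub_smul, h, sub_self] : (s - t) • c = 0)).resolve_right hc))
    set c' : Fin m → F := fun k => c k.castSucc with hc'
    set d := c (Fin.last m) with hd
    have hθ : ∀ s, φ' (s • c) = φ (s • c') + ej (s * d) := fun s => rfl
    by_cases hc'0 : c' = 0
    · exact ⟨j, mem_iff_of_image θ hθi (fun s => by
        show φ' (s • c) ∈ E j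
        rw [hθ, hc'0, smul_zero, map_zero, zero_add]
        exact (ej _).2) (hcE j)⟩
    obtain ⟨l, hl⟩ := hline c' hc'0
    by_cases hd0 : d = 0
    · exact ⟨l, mem_iff_of_image θ hθi (fun s => by
        show φ' (s • c) ∈ E l
        rw [hθ, hd0, mul_zero, map_zero, AddSubgroup.coe_zero, add_zero]
        exact (hl _).2 ⟨s, rfl⟩) (hcE l)⟩
    suffices ∃ f : E l →+ E j, IsGraph E f ∧
        ∀ (s : F) (y : E l), (y : V) = φ (s • c') → (f y : V) = ej (s * d) by
      obtain ⟨f, ⟨L, hL⟩, hfe⟩ := this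
      refine ⟨L, mem_iff_of_image θ hθi (fun s => ?_) (hcE L)⟩
      show φ' (s • c) ∈ E L
      have h2 := hL ⟨φ (s • c'), (hl _).2 ⟨s, rfl⟩⟩
      rwa [hfe s _ rfl, ← hθ] at h2
    rcases eq_or_ne l i0 with rfl | hl0
    · set b := e0.symm ⟨φ c', (hl _).2 ⟨1, by rw [one_smul]⟩⟩ with hb
      have hcb : c' = b • c0 := hinj (by rw [hc0, hb, AddEquiv.apply_symm_apply])
      have hb0 : b ≠ 0 := fun e => hc'0 (by rw [hcb, e, zero_smul])
      obtain ⟨f, hf, hfe⟩ := hmap (d / b)
      refine ⟨f, hf, fun s y hy => ?_⟩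
      obtain rfl : y = e0 (s * b) := Subtype.ext (by rw [hy, hcb, smul_smul, hc0])
      rw [hfe, show d / b * (s * b) = s * d by field_simp]
    · let η : F →+ V := φ.comp
        { toFun := fun s => s • c'
          map_zero' := zero_smul F c'
          map_add' := fun s t => add_smul s t c' }
      have hηi : Function.Injective η := hinj.comp (fun s t (h : s • c' = t • c') =>
        sub_eq_zero.1 ((smul_eq_zero.1
          (by rw [sub_smul, h, sub_self] : (s - t) • c' = 0)).resolve_right hc'0))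
      have hη : Function.Bijective (fun s => (⟨η s, (hl _).2 ⟨s, rfl⟩⟩ : E l)) :=
        (Nat.bijective_iff_injective_and_card _).2
          ⟨fun a b h => hηi (congrArg Subtype.val h), hcE l⟩
      let ψ : F ≃+ E l := AddEquiv.ofBijective
        (η.codRestrict (E l) fun s => (hl _).2 ⟨s, rfl⟩) hη
      have hψ : ∀ s, (ψ s : V) = φ (s • c') := fun s => rfl
      let g0 : E l →+ E i0 := e0.toAddMonoidHom.comp ψ.symm.toAddMonoidHom
      have hne : c' + c0 ≠ 0 := by
        intro e
        apply hl0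
        refine H.eq_of_mem (v := φ c') ((hl _).2 ⟨1, by rw [one_smul]⟩) ?_
          (fun e' => hc'0 (hinj (e'.trans (map_zero φ).symm)))
        rw [eq_neg_of_add_eq_zero_left e, map_neg,
          show φ c0 = (e0 1 : V) by rw [← hc0, one_smul]]
        exact neg_mem (e0 1).2
      obtain ⟨L, hL⟩ := hline _ hne
      have hg0 : IsGraph E g0 := by
        refine ⟨L, fun y => (hL _).2 ⟨ψ.symm y, ?_⟩⟩
        rw [smul_add, map_add, hc0, ← hψ, ψ.apply_symm_apply]
        rfl
      obtain ⟨f, hf, hfe⟩ := hmap d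
      have hI' := hindep i0 l hl0.symm hr0 (fun x hx => by
        obtain ⟨s, hs⟩ := (hl x).1 hx; exact ⟨_, hs⟩)
      refine ⟨f.comp g0, H.comp_graph hI' hf hg0, fun s y hy => ?_⟩
      obtain rfl : y = ψ s := Subtype.ext (hy.trans (hψ s).symm)
      simp [g0, hfe, mul_comm d s]
  -- iterate
  have hiter : ∀ n m, n + m = Nat.card V + 1 → 2 ≤ m → (∃ φ, Good m φ) →
      ∃ m φ, 2 ≤ m ∧ Good m φ ∧ Function.Surjective φ := by
    intro n
    induction n with
    | zero =>
      rintro m hm hm2 ⟨φ, hφ⟩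
      exfalso
      have h1 := Nat.card_le_card_of_injective φ hφ.1
      rw [Nat.card_pi, Finset.prod_const, Finset.card_univ, Fintype.card_fin] at h1
      have h2 : m < Nat.card F ^ m := Nat.lt_pow_self Finite.one_lt_card
      omega
    | succ n ih =>
      rintro m hm hm2 ⟨φ, hφ⟩
      by_cases hs : Function.Surjective φ
      · exact ⟨m, φ, hm2, hφ, hs⟩
      · exact ih (m + 1) (by omega) (by omega) (hstep m φ hφ hs)
  have hV2 : 2 ≤ Nat.card V + 1 := by
    have : 0 < Nat.card V := Nat.card_pos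
    omega
  obtain ⟨m, φ, hm2, hgood, hsurj⟩ := hiter (Nat.card V + 1 - 2) 2 (by omega) le_rfl hbase
  refine ⟨F, iF, iFi, m, AddEquiv.ofBijective φ ⟨hgood.1, hsurj⟩, hm2, fun i => ?_, hgood.2.2.2⟩
  rw [hcF]
  exact H.card i i0

end CfsgLib.ItoDesign
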