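import Cfsg.Agent.ItoDesign.Components
import Cfsg.Agent.ItoDesign.Spread
import Cfsg.Agent.ItoDesign.Proj

/-!
# The design of axial groups is the design of points and hyperplanes of a projective space
-/

set_option autoImplicit false

namespace CfsgLib.ItoDesign

open MulAction Matrix
open scoped LinearAlgebra.Projectivization

variable {G Ω β : Type*} [Group G] [Finite G] [MulAction G Ω] [MulAction G β] [Finite Ω]
  {D : Design G Ω β} (A : Axial D)

namespace Axial

/-- An axial group as an additive group. -/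
@[reducible] noncomputable def commGroup (B : β) : CommGroup (A.T B) :=
  { (inferInstance : Group (A.T B)) with
    mul_comm := fun s t => Subtype.ext (A.commute s.2 t.2) }

theorem commute_of_centre {B C : β} {z : Ω} (hzB : z ∈ D.pts B) (hzC : z ∈ D.pts C) (hCB : C ≠ B)
    {u d : G} (hu : u ∈ A.E C z) (hd : d ∈ A.E B z) : u * d = d * u := by
  have huB : u • B = B := hu.2 B hzB
  have hdC : d • C = C := hd.2 C hzC
  have h1 : u * d * u⁻¹ * d⁻¹ ∈ A.T B := mul_mem (A.conj_fix huB hd.1) (inv_mem hd.1)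
  have h2 : u * d * u⁻¹ * d⁻¹ ∈ A.T C := by
    rw [mul_assoc, mul_assoc, ← mul_assoc d]
    exact mul_mem hu.1 (A.conj_fix hdC (inv_mem hu.1))
  have h3 := A.eq_one_of_two_axes hCB.symm h1 (A.fix C _ h2)
  rw [mul_inv_eq_one, mul_inv_eq_iff_eq_mul] at h3
  exact h3

/-- Projective coordinates. -/
theorem exists_projective [FaithfulSMul G Ω] (B₀ : β) :
    ∃ (F : Type) (_ : Field F) (_ : Fintype F) (m : ℕ)
      (e : ℙ F (Fin (m + 1) → F) ≃ Ω) (blk : β ≃ ℙ F (Fin (m + 1) → F)), 2 ≤ m ∧
      (∀ C z, z ∈ D.pts C → Nat.card (A.E C z) = Fintype.card F) ∧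
      ∀ C p, e p ∈ D.pts C ↔ Inc (blk C) p := by
  classical
  letI := A.commGroup B₀
  haveI := D.finite_blk
  obtain ⟨p, hp, hexp⟩ := A.exists_prime B₀
  haveI := Fact.mk hp
  obtain ⟨x₀, hx₀⟩ := D.exists_notMem B₀
  let V := Additive (A.T B₀)
  let E : D.pts B₀ → AddSubgroup V := fun i =>
    Subgroup.toAddSubgroup ((A.E B₀ (i : Ω)).subgroupOf (A.T B₀))
  have hmemE : ∀ (i : D.pts B₀) (v : V),
      v ∈ E i ↔ ((Additive.toMul v : A.T B₀) : G) ∈ A.E B₀ i := fun i v => Iff.rfl
  have hEeq : ∀ i : D.pts B₀, Nat.card (E i) = Nat.card (A.E B₀ (i : Ω)) := fun i =>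
    Nat.card_congr
      { toFun := fun v => ⟨((Additive.toMul (v : V) : A.T B₀) : G), v.2⟩
        invFun := fun g => ⟨Additive.ofMul ⟨(g : G), A.E_le B₀ i g.2⟩, g.2⟩
        left_inv := fun v => rfl
        right_inv := fun g => rfl }
  have hspread : Spread E p := by
    refine ⟨fun v hv => ?_, fun i j hij v hi hj => ?_, fun i j => ?_, fun i => ?_, fun i => ?_,
      fun v => ?_, fun i j hij => ?_⟩
    · have h1 : ((Additive.toMul v : A.T B₀) : G) ≠ 1 := fun e => hv (by
        have : Additive.toMul v = (1 : A.T B₀) := Subtype.ext e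
        exact Additive.toMul.injective this)
      obtain ⟨z, hz, hvz⟩ := A.exists_mem_E (Additive.toMul v).2 h1
      exact ⟨⟨z, hz⟩, hvz⟩
    · have := A.E_inter (fun e => hij (Subtype.ext e)) ((hmemE i v).1 hi) ((hmemE j v).1 hj)
      exact Additive.toMul.injective (Subtype.ext this)
    · rw [hEeq, hEeq, A.card_E_eq i.2 j.2]
    · obtain ⟨t, ht, ht1⟩ := A.E_ne_bot i.2
      refine ⟨⟨Additive.ofMul ⟨t, A.E_le B₀ i ht⟩, ht⟩, 0, fun e => ht1 ?_⟩
      exact congrArg (fun v : E i => ((Additive.toMul (v : V) : A.T B₀) : G)) e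
    · obtain ⟨y, hy, hyz⟩ := exists_other (D := D) (B := B₀) (i : Ω)
      exact ⟨⟨y, hy⟩, fun e => hyz (congrArg Subtype.val e)⟩
    · refine Additive.toMul.injective (Subtype.ext ?_)
      rw [toMul_nsmul, SubgroupClass.coe_pow]
      exact hexp _ (Additive.toMul v).2
    · obtain ⟨C, hiC, hjC⟩ := D.exists_thru_not i j (fun e => hij (Subtype.ext e))
      have hCB : C ≠ B₀ := by rintro rfl; exact hjC j.2
      let f : A.E C (i : Ω) → (E j →+ E i) := fun u => AddMonoidHom.mk'
        (fun y => ⟨Additive.ofMul ⟨_, (A.comm_mem i.2 u.2 (Additive.toMul (y : V)).2).1⟩,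
          A.comm_mem i.2 u.2 (Additive.toMul (y : V)).2⟩)
        (fun y y' => Subtype.ext (Additive.toMul.injective (Subtype.ext
          (A.comm_mul i.2 u.2 (Additive.toMul (y : V)).2 (Additive.toMul (y' : V)).2))))
      have hf : ∀ u (y : E j), ((Additive.toMul ((f u y : E i) : V) : A.T B₀) : G) =
          ((Additive.toMul (y : V) : A.T B₀) : G)⁻¹ *
            ((u : G) * ((Additive.toMul (y : V) : A.T B₀) : G) * (u : G)⁻¹) := fun u y => rfl
      let Δ : Additive (A.E C (i : Ω)) →+ (E j →+ E i) := AddMonoidHom.mk'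
        (fun u => f (Additive.toMul u)) (fun u u' => by
          refine AddMonoidHom.ext fun y => ?_
          refine Subtype.ext (Additive.toMul.injective (Subtype.ext ?_))
          show ((Additive.toMul ((f (Additive.toMul u * Additive.toMul u') y : E i) : V) : A.T B₀) : G) =
            ((Additive.toMul ((f (Additive.toMul u) y : E i) : V) : A.T B₀) : G) *
              ((Additive.toMul ((f (Additive.toMul u') y : E i) : V) : A.T B₀) : G)
          rw [hf, hf, hf]
          set t := ((Additive.toMul (y : V) : A.T B₀) : G) with ht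
          set a : G := ((Additive.toMul u : A.E C (i : Ω)) : G) with ha
          set a' : G := ((Additive.toMul u' : A.E C (i : Ω)) : G) with ha'
          have hd : t⁻¹ * (a' * t * a'⁻¹) ∈ A.E B₀ (i : Ω) :=
            A.comm_mem i.2 (Additive.toMul u').2 (Additive.toMul (y : V)).2
          have hc := A.commute_of_centre i.2 hiC hCB (Additive.toMul u).2 hd
          rw [← ha] at hc
          rw [Subgroup.coe_mul, ← ha, ← ha']
          calc t⁻¹ * (a * a' * t * (a * a')⁻¹)
              = (t⁻¹ * (a * t * a⁻¹)) * (a * (t⁻¹ * (a' * t * a'⁻¹)) * a⁻¹) := by group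
            _ = _ := by rw [hc, mul_inv_cancel_right])
      refine ⟨Δ.range, ?_, ?_⟩
      · have hΔ : Function.Injective Δ := by
          rw [injective_iff_map_eq_zero]
          intro u hu
          by_contra hu1
          obtain ⟨t, ht, ht1⟩ := A.E_ne_bot j.2
          let y : E j := ⟨Additive.ofMul ⟨t, A.E_le B₀ j ht⟩, ht⟩
          have h1 : t⁻¹ * (((Additive.toMul u : A.E C (i : Ω)) : G) * t *
              ((Additive.toMul u : A.E C (i : Ω)) : G)⁻¹) = 1 :=
            congrArg (fun g : E j →+ E i => ((Additive.toMul ((g y : E i) : V) : A.T B₀) : G)) hu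
          have h2 := A.smul_of_comm (B := B₀) (Additive.toMul u).2.1
            (fun e => hu1 (Additive.toMul.injective (Subtype.ext e))) h1
          exact hjC ((A.mem_of_E ht ht1).1 h2)
        rw [Nat.card_congr (AddMonoidHom.ofInjective hΔ).toEquiv.symm,
          Nat.card_congr Additive.toMul, hEeq, A.card_E_eq hiC i.2]
      · rintro _ ⟨u, rfl⟩
        set a : G := ((Additive.toMul u : A.E C (i : Ω)) : G) with ha
        have haB : a • B₀ = B₀ := (Additive.toMul u).2.2 B₀ i.2
        refine ⟨⟨a • (j : Ω), (D.smul_mem_iff a haB j).2 j.2⟩, fun y => ?_⟩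
        rw [hmemE, toMul_add, Subgroup.coe_mul]
        show ((Additive.toMul (y : V) : A.T B₀) : G) *
          ((Additive.toMul ((f (Additive.toMul u) y : E i) : V) : A.T B₀) : G) ∈ _
        rw [hf, mul_inv_cancel_left]
        have := A.conj_E a ((hmemE j y).1 y.2)
        rwa [haB] at this
  haveI : Nonempty (D.pts B₀) := (D.exists_mem B₀).elim fun z hz => ⟨⟨z, hz⟩⟩
  obtain ⟨F, iF, iFi, m, φ, hm, hq, hline⟩ := hspread.exists_coords
  have hEq : ∀ C z, z ∈ D.pts C → Nat.card (A.E C z) = Fintype.card F := by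
    intro C z hz
    obtain ⟨z₀, hz₀⟩ := D.exists_mem B₀
    rw [A.card_E_eq hz hz₀, ← hq ⟨z₀, hz₀⟩, hEeq]
  -- the group element attached to a vector
  let el : (Fin m → F) → G := fun c => ((Additive.toMul (φ c) : A.T B₀) : G)
  have hel : ∀ c, el c ∈ A.T B₀ := fun c => (Additive.toMul (φ c)).2
  have hel_inj : Function.Injective el := fun c c' h =>
    φ.injective (Additive.toMul.injective (Subtype.ext h))
  have hel0 : el 0 = 1 := by
    simp only [el, map_zero, toMul_zero, Subgroup.coe_one]
  have hel_surj : ∀ t ∈ A.T B₀, ∃ c, el c = t := fun t ht =>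
    ⟨φ.symm (Additive.ofMul ⟨t, ht⟩), by simp [el]⟩
  have hel_add : ∀ c c', el (c + c') = el c * el c' := fun c c' => by
    simp only [el, map_add]
    rfl
  have hel_sub : ∀ c c', el (c - c') = el c * (el c')⁻¹ := fun c c' => by
    simp only [el, sub_eq_add_neg, map_add, map_neg]
    rfl
  have hel_line : ∀ c, c ≠ 0 → ∀ z ∈ D.pts B₀, el c ∈ A.E B₀ z →
      ∀ c', el c' ∈ A.E B₀ z ↔ ∃ s : F, s • c = c' := by
    intro c hc z hz hcz c'
    obtain ⟨l, hl⟩ := hline c hc
    have hne : φ c ≠ 0 := fun e => hc (φ.injective (e.trans (map_zero φ).symm))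
    obtain rfl : l = ⟨z, hz⟩ :=
      hspread.eq_of_mem ((hl _).2 ⟨1, by rw [one_smul]⟩) hcz hne
    exact (hl (φ c')).trans (exists_congr fun s => φ.injective.eq_iff)
  have hstay : ∀ c, el c • x₀ ∉ D.pts B₀ := fun c h =>
    hx₀ ((D.smul_mem_iff _ (A.smul_axis (hel c)) x₀).1 h)
  have hel_x : ∀ c c', el c • x₀ = el c' • x₀ → c = c' := by
    intro c c' h
    refine hel_inj ((inv_mul_eq_one.1 (A.semireg B₀ _ (mul_mem (inv_mem (hel c')) (hel c))
      x₀ hx₀ ?_)).symm)
    rw [mul_smul, inv_smul_eq_iff]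
    exact h
  -- points
  let R : (Fin (m + 1) → F) → Ω → Prop := fun v x =>
    (v 0 = 0 ∧ x ∈ D.pts B₀ ∧ el (fun k : Fin m => v k.succ) ∈ A.E B₀ x) ∨
      (v 0 ≠ 0 ∧ x = el ((v 0)⁻¹ • fun k : Fin m => v k.succ) • x₀)
  have htail : ∀ v : Fin (m + 1) → F, v ≠ 0 → v 0 = 0 → (fun k : Fin m => v k.succ) ≠ 0 := by
    intro v hv h0 e
    exact hv (funext fun k => Fin.cases h0 (fun j => congrFun e j) k)
  have hRex : ∀ v, v ≠ 0 → ∃ x, R v x := by
    intro v hv
    by_cases h0 : v 0 = 0
    · obtain ⟨z, hz, hvz⟩ := A.exists_mem_E (hel (fun k : Fin m => v k.succ))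
        (fun e => htail v hv h0 (hel_inj (e.trans hel0.symm)))
      exact ⟨z, Or.inl ⟨h0, hz, hvz⟩⟩
    · exact ⟨_, Or.inr ⟨h0, rfl⟩⟩
  have hRuniq : ∀ v x x', v ≠ 0 → R v x → R v x' → x = x' := by
    rintro v x x' hv (⟨h0, hx, hvx⟩ | ⟨h0, rfl⟩) (⟨h0', hx', hvx'⟩ | ⟨h0', rfl⟩)
    · by_contra hne
      exact htail v hv h0 (hel_inj ((A.E_inter hne hvx hvx').trans hel0.symm))
    · exact absurd h0 h0'
    · exact absurd h0' h0
    · rfl
  have hRscale : ∀ (s : F) v x, s ≠ 0 → v ≠ 0 → R v x → R (s • v) x := by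
    rintro s v x hs hv (⟨h0, hx, hvx⟩ | ⟨h0, rfl⟩)
    · refine Or.inl ⟨by simp [h0], hx, ?_⟩
      exact (hel_line _ (htail v hv h0) x hx hvx _).2 ⟨s, rfl⟩
    · refine Or.inr ⟨by simp [h0, hs], ?_⟩
      congr 2
      funext k
      simp only [Pi.smul_apply, smul_eq_mul]
      field_simp
  choose pt hpt using fun p : ℙ F (Fin (m + 1) → F) => hRex p.rep p.rep_nonzero
  have hpt' : ∀ v (hv : v ≠ 0), R v (pt (Projectivization.mk F v hv)) := by
    intro v hv
    obtain ⟨s, hs⟩ := Projectivization.exists_smul_eq_mk_rep F v hv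
    obtain ⟨x, hx⟩ := hRex v hv
    have h1 := hRscale s v x s.ne_zero hv hx
    rw [← Units.smul_def, hs] at h1
    rwa [hRuniq _ _ _ (Projectivization.rep_nonzero _) (hpt _) h1]
  have hbij : Function.Bijective pt := by
    refine ⟨fun q q' h => ?_, fun x => ?_⟩
    · induction q using Projectivization.ind with | _ v hv => ?_
      induction q' using Projectivization.ind with | _ w hw => ?_
      have h1 := hpt' v hv
      have h2 := hpt' w hw
      rw [← h] at h2
      rw [Projectivization.mk_eq_mk_iff']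
      rcases h1 with ⟨h0, hx, hvx⟩ | ⟨h0, hx⟩ <;> rcases h2 with ⟨h0', hx', hwx⟩ | ⟨h0', hx'⟩
      · obtain ⟨s, hs⟩ := (hel_line _ (htail w hw h0') _ hx' hwx _).1 hvx
        exact ⟨s, funext fun k => Fin.cases (by simp [h0, h0']) (fun j => congrFun hs j) k⟩
      · exact absurd (hx' ▸ hx) (hstay _)
      · exact absurd (hx ▸ hx') (hstay _)
      · have h3 := hel_x _ _ (hx.symm.trans hx')
        refine ⟨v 0 / w 0, funext fun k => Fin.cases ?_ (fun j => ?_) k⟩
        · simp only [Pi.smul_apply, smul_eq_mul]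
          field_simp
        · have h4 := congrFun h3 j
          simp only [Pi.smul_apply, smul_eq_mul] at h4 ⊢
          field_simp at h4 ⊢
          linear_combination -h4
    · by_cases hx : x ∈ D.pts B₀
      · obtain ⟨t, ht, ht1⟩ := A.E_ne_bot hx
        obtain ⟨c, rfl⟩ := hel_surj t ht.1
        have hc : c ≠ 0 := by rintro rfl; exact ht1 hel0
        have hv : (Fin.cons 0 c : Fin (m + 1) → F) ≠ 0 := fun e =>
          hc (funext fun k => by simpa using congrFun e k.succ)
        refine ⟨_, hRuniq _ _ _ hv (hpt' _ hv) (Or.inl ⟨Fin.cons_zero _ _, hx, ?_⟩)⟩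
        simpa using ht
      · obtain ⟨t, ht, htx⟩ := A.exists_smul_eq hx₀ hx
        obtain ⟨c, rfl⟩ := hel_surj t ht
        have hv : (Fin.cons 1 c : Fin (m + 1) → F) ≠ 0 := fun e =>
          (one_ne_zero : (1 : F) ≠ 0) (by simpa using congrFun e 0)
        refine ⟨_, hRuniq _ _ _ hv (hpt' _ hv) (Or.inr ⟨by simp, ?_⟩)⟩
        simp [htx]
  let e := Equiv.ofBijective pt hbij
  have hdot : ∀ (a v : Fin (m + 1) → F),
      a ⬝ᵥ v = a 0 * v 0 + (fun k : Fin m => a k.succ) ⬝ᵥ (fun k : Fin m => v k.succ) :=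
    fun a v => Fin.sum_univ_succ _
  -- blocks
  have hblock : ∀ C, ∃ (a : Fin (m + 1) → F) (ha : a ≠ 0),
      ∀ v (hv : v ≠ 0), pt (Projectivization.mk F v hv) ∈ D.pts C ↔ a ⬝ᵥ v = 0 := by
    intro C
    rcases eq_or_ne C B₀ with rfl | hCB
    · refine ⟨Pi.single 0 1, Pi.single_ne_zero_iff.2 one_ne_zero, fun v hv => ?_⟩
      rw [single_dotProduct, one_mul]
      rcases hpt' v hv with ⟨h0, hx, -⟩ | ⟨h0, hx⟩
      · exact iff_of_true hx h0
      · exact iff_of_false (hx ▸ hstay _) h0
    obtain ⟨z₀, hz₀⟩ := D.exists_mem B₀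
    obtain ⟨-, hstabl, hTq, hq2⟩ := A.params hCB hz₀
    let W : Submodule F (Fin m → F) :=
      { carrier := {c | el c • C = C}
        add_mem' := fun {c c'} hc hc' => by
          have h1 : el (c + c') = el c * el c' := hel_add c c'
          show el (c + c') • C = C
          rw [h1, mul_smul, hc', hc]
        zero_mem' := by show el 0 • C = C; rw [hel0, one_smul]
        smul_mem' := fun s c hc => by
          show el (s • c) • C = C
          by_cases hc0 : c = 0
          · rw [hc0, smul_zero, hel0, one_smul]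
          by_cases hsc : s • c = 0
          · rw [hsc, hel0, one_smul]
          have hne : ∀ d, d ≠ 0 → el d ≠ 1 := fun d hd e => hd (hel_inj (e.trans hel0.symm))
          obtain ⟨z, hz, hcz⟩ := A.exists_mem_E (hel c) (hne c hc0)
          have hz' := (hel_line c hc0 z hz hcz _).2 ⟨s, rfl⟩
          rw [A.mem_of_E hz' (hne _ hsc)]
          exact (A.mem_of_E hcz (hne c hc0)).1 hc }
    have hcW : Nat.card W = Nat.card (A.stab B₀ C) :=
      Nat.card_congr (Equiv.ofBijective
        (fun c : W => (⟨el c, hel _, c.2⟩ : A.stab B₀ C))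
        ⟨fun c c' h => Subtype.ext (hel_inj (congrArg (fun t : A.stab B₀ C => (t : G)) h)), fun t => by
          obtain ⟨c, hc⟩ := hel_surj (t : G) t.2.1
          exact ⟨⟨c, show el c • C = C by rw [hc]; exact t.2.2⟩, Subtype.ext hc⟩⟩)
    have hcV : Nat.card (Fin m → F) = Nat.card (A.T B₀) :=
      Nat.card_congr (φ.toEquiv.trans Additive.toMul)
    have hqF : Nat.card (A.E B₀ z₀) = Fintype.card F := hEq _ _ hz₀
    have hlt : W < ⊤ := by
      refine lt_top_iff_ne_top.2 fun e => ?_
      have h1 : Nat.card W = Nat.card (Fin m → F) := by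
        rw [e]; exact Nat.card_congr Submodule.topEquiv.toEquiv
      rw [hcV, hTq, hcW] at h1
      have h2 : 0 < Nat.card (A.stab B₀ C) := Nat.card_pos
      nlinarith
    obtain ⟨f, hf0, hfW⟩ := Submodule.exists_dual_map_eq_bot_of_lt_top hlt inferInstance
    have hWf : ∀ c ∈ W, f c = 0 := fun c hc => by
      have : f c ∈ W.map f := Submodule.mem_map_of_mem hc
      rwa [hfW, Submodule.mem_bot] at this
    have hker : W = LinearMap.ker f := by
      refine SetLike.coe_injective (Set.eq_of_subset_of_ncard_le (fun c hc => hWf c hc) ?_)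
      have hsurj : Function.Surjective f := LinearMap.surjective hf0
      have h1 := Submodule.card_eq_card_quotient_mul_card (LinearMap.ker f)
      rw [Nat.card_congr (f.quotKerEquivOfSurjective hsurj).toEquiv, hcV, hTq, hqF,
        Nat.card_eq_fintype_card (α := F), ← hcW] at h1
      rw [← Nat.card_coe_set_eq, ← Nat.card_coe_set_eq]
      have h2 : Nat.card (LinearMap.ker f) = Nat.card W := by
        have := Fintype.card_pos (α := F)
        nlinarith
      exact h2.le
    obtain ⟨x₁, hx₁C, hx₁B⟩ := D.not_subset hCB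
    obtain ⟨t₁, ht₁, htx₁⟩ := A.exists_smul_eq hx₀ hx₁B
    obtain ⟨c₁, rfl⟩ := hel_surj t₁ ht₁
    have hfdot : ∀ c, (fun k => f (Pi.single k (1 : F))) ⬝ᵥ c = f c := by
      intro c
      conv_rhs => rw [pi_eq_sum_univ' c]
      simp [dotProduct, mul_comm]
    let a : Fin (m + 1) → F := Fin.cons (-f c₁) fun k => f (Pi.single k (1 : F))
    have ha : a ≠ 0 := by
      intro e
      refine hf0 (LinearMap.ext fun c => ?_)
      rw [← hfdot, LinearMap.zero_apply, show (fun k => f (Pi.single k (1 : F))) = 0 from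
        funext fun k => by simpa [a] using congrFun e k.succ, zero_dotProduct]
    refine ⟨a, ha, fun v hv => ?_⟩
    rw [hdot]
    simp only [a, Fin.cons_zero, Fin.cons_succ, hfdot]
    rcases hpt' v hv with ⟨h0, hx, hvx⟩ | ⟨h0, hx⟩
    · have hne : el (fun k : Fin m => v k.succ) ≠ 1 := fun e =>
        htail v hv h0 (hel_inj (e.trans hel0.symm))
      rw [← A.mem_of_E hvx hne, h0, mul_zero, zero_add]
      show (fun k : Fin m => v k.succ) ∈ W ↔ _
      rw [hker, LinearMap.mem_ker]
    · rw [hx, A.block_eq hCB hx₁C hx₁B (hstay _)]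
      set c := (v 0)⁻¹ • fun k : Fin m => v k.succ with hc
      have hfv : f (fun k : Fin m => v k.succ) = v 0 * f c := by
        rw [hc, map_smul, smul_eq_mul]; field_simp
      rw [hfv]
      constructor
      · rintro ⟨t, ⟨ht, htC⟩, htx⟩
        obtain ⟨d, rfl⟩ := hel_surj t ht
        rw [← htx₁, ← mul_smul] at htx
        have h1 : el (d + c₁) = el c := by
          have h2 : el (d + c₁) = el d * el c₁ := hel_add d c₁
          exact congrArg el (hel_x _ _ (by rw [h2]; exact htx))
        have hd : f d = 0 := hWf d htC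
        rw [← hel_inj h1, map_add, hd, zero_add]
        ring
      · intro h
        have hd : f (c - c₁) = 0 := by
          rw [map_sub]
          have : v 0 * (f c - f c₁) = 0 := by linear_combination h
          exact (mul_eq_zero.1 this).resolve_left h0
        have hdW : c - c₁ ∈ W := by rw [hker]; exact hd
        refine ⟨el (c - c₁), ⟨hel _, hdW⟩, ?_⟩
        rw [hel_sub, ← htx₁, mul_smul, inv_smul_smul]
  choose av hav hblk using hblock
  let b : β → ℙ F (Fin (m + 1) → F) := fun C => Projectivization.mk F (av C) (hav C)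
  have hb : ∀ C q, e q ∈ D.pts C ↔ Inc (b C) q := by
    intro C q
    induction q using Projectivization.ind with | _ v hv => ?_
    rw [inc_mk]
    exact hblk C v hv
  have hbbij : Function.Bijective b := by
    refine (Nat.bijective_iff_injective_and_card b).2 ⟨fun C C' h => D.inj ?_, ?_⟩
    · ext x
      obtain ⟨q, rfl⟩ := e.surjective x
      rw [hb, hb, h]
    · rw [D.card_eq, Nat.card_congr e]
  exact ⟨F, iF, iFi, m, e, Equiv.ofBijective b hbbij, hm, hEq, hb⟩

include A in
/-- The group generated by all axial groups is the projective special linear group. -/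
theorem conclusion [FaithfulSMul G Ω] (B₀ : β) :
    ∃ (m : ℕ) (F : Type) (_ : Field F) (_ : Fintype F), 2 ≤ m ∧
      Nat.card Ω = (Fintype.card F ^ (m + 1) - 1) / (Fintype.card F - 1) ∧
      ∃ N : Subgroup G, N.Normal ∧
        Nonempty (N ≃* Matrix.ProjectiveSpecialLinearGroup (Fin (m + 1)) F) ∧
        Subgroup.centralizer (N : Set G) = ⊥ := by
  classical
  obtain ⟨F, iF, iFi, m, e, blk, hm, hq, hinc⟩ := A.exists_projective B₀
  haveI := D.finite_blk
  refine ⟨m, F, iF, iFi, hm, ?_, ?_⟩
  · rw [← Nat.card_congr e, Projectivization.card'', Nat.card_pi, Finset.prod_const,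
      Finset.card_univ, Fintype.card_fin, Nat.card_eq_fintype_card]
  set N := Subgroup.closure {g : G | ∃ C, g ∈ A.T C} with hN
  have hnorm : N.Normal := by
    refine ⟨fun n hn g => ?_⟩
    have h1 : Subgroup.map (MulAut.conj g).toMonoidHom N ≤ N := by
      rw [hN, MonoidHom.map_closure]
      refine Subgroup.closure_mono ?_
      rintro _ ⟨t, ⟨C, ht⟩, rfl⟩
      exact ⟨g • C, A.conj g C t ht⟩
    exact h1 ⟨n, hn, rfl⟩
  refine ⟨N, hnorm, ?_, ?_⟩
  · let ρ : G →* Equiv.Perm (ℙ F (Fin (m + 1) → F)) :=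
      e.symm.permCongrHom.toMonoidHom.comp (MulAction.toPermHom G Ω)
    have hρ : ∀ g q, e (ρ g q) = g • e q := fun g q => by
      show e (e.symm.permCongr (MulAction.toPerm g) q) = g • e q
      simp [Equiv.permCongr_apply]
    have hρinj : Function.Injective ρ := by
      intro g g' h
      refine eq_of_smul_eq_smul (α := Ω) fun x => ?_
      obtain ⟨q, rfl⟩ := e.surjective x
      rw [← hρ, ← hρ, h]
    have hel : ∀ C z u, z ∈ D.pts C → u ∈ A.E C z →
        IsElation (blk C) (e.symm z) (ρ u) := by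
      intro C z u hz hu
      refine ⟨fun a => ?_, fun q hq => ?_, fun a ha q hq => ?_⟩
      · obtain ⟨C', rfl⟩ := blk.surjective a
        refine ⟨blk (u • C'), fun q => ?_⟩
        rw [← hinc, ← hinc, hρ, D.mem_smul]
      · refine e.injective ?_
        rw [hρ]
        exact A.fix C u hu.1 _ ((hinc C q).2 hq)
      · obtain ⟨C', rfl⟩ := blk.surjective a
        rw [← hinc, hρ]
        rw [← hinc, Equiv.apply_symm_apply] at ha
        rw [← hinc] at hq
        exact (D.smul_mem_iff u (hu.2 C' ha) _).2 hq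
    have hrange : Subgroup.map ρ N =
        (Projectivization.PSLAction.toPermHom (K := F) (ι := Fin (m + 1))).range := by
      rw [hN, MonoidHom.map_closure]
      refine closure_eq_range (by omega) _ ?_ ?_
      · rintro _ ⟨u, ⟨C, hu⟩, rfl⟩
        obtain ⟨z, hz, huz⟩ : ∃ z ∈ D.pts C, u ∈ A.E C z := by
          by_cases hu1 : u = 1
          · obtain ⟨z, hz⟩ := D.exists_mem C
            exact ⟨z, hz, hu1 ▸ one_mem _⟩
          · exact A.exists_mem_E hu hu1
        exact ⟨_, _, (hinc C _).1 (by rwa [Equiv.apply_symm_apply]), hel C z u hz huz⟩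
      · intro a x hax
        obtain ⟨C, rfl⟩ := blk.surjective a
        have hz : e x ∈ D.pts C := (hinc C x).2 hax
        obtain ⟨θ⟩ : Nonempty (F ≃ A.E C (e x)) :=
          Finite.card_eq.1 (by rw [Nat.card_eq_fintype_card, hq C _ hz])
        refine ⟨fun s => ρ (θ s), fun s s' h => θ.injective (Subtype.ext (hρinj h)), fun s => ?_⟩
        refine ⟨⟨_, ⟨C, (θ s).2.1⟩, rfl⟩, ?_⟩
        have := hel C (e x) _ hz (θ s).2
        rwa [Equiv.symm_apply_apply] at this
    exact ⟨(N.equivMapOfInjective ρ hρinj).trans ((MulEquiv.subgroupCongr hrange).trans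
      (MonoidHom.ofInjective
        Matrix.ProjectiveSpecialLinearGroup.toPermHom_injective).symm)⟩
  · rw [Subgroup.eq_bot_iff_forall]
    intro g hg
    have hfixblk : ∀ C : β, g • C = C := by
      intro C
      obtain ⟨t, ht, ht1⟩ : ∃ t ∈ A.T C, t ≠ 1 := by
        obtain ⟨t, ht⟩ := (A.T C).ne_bot_iff_exists_ne_one.1 (A.ne_bot C)
        exact ⟨t, t.2, fun h => ht (Subtype.ext h)⟩
      have hc : t * g = g * t :=
        Subgroup.mem_centralizer_iff.1 hg t (Subgroup.subset_closure ⟨C, ht⟩)
      have hfix : fixedBy Ω t = D.pts C := A.fixedBy_pts ht ht1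
      refine (D.inj (Set.eq_of_subset_of_ncard_le (fun x hx => ?_) ?_)).symm
      · have h1 : g⁻¹ • x ∈ D.pts C := by
          rw [← hfix] at hx ⊢
          show t • g⁻¹ • x = g⁻¹ • x
          have hcg : t * g⁻¹ = g⁻¹ * t := (Commute.inv_right hc).eq
          rw [← mul_smul, hcg, mul_smul, hx]
        have := (D.mem_smul g C _).2 h1
        rwa [smul_inv_smul] at this
      · rw [D.card_pts, D.card_pts]
    have hall : fixedBy Ω g = Set.univ := by
      refine Set.eq_of_subset_of_ncard_le (Set.subset_univ _) ?_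
      rw [← D.fixed_eq, show fixedBy β g = Set.univ from Set.eq_univ_of_forall hfixblk,
        Set.ncard_univ, Set.ncard_univ, D.card_eq]
    refine eq_of_smul_eq_smul (α := Ω) fun x => ?_
    rw [one_smul]
    exact hall.ge (Set.mem_univ x)

end Axial

end CfsgLib.ItoDesign
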