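import Cfsg.Agent.ItoDesign.Main
import Cfsg.Agent.Char.FrobeniusKernel

/-!
# Axial groups from a pointwise stabiliser

The pointwise stabiliser of a block has at most one further fixed point for each non-identity element, so
it is semiregular or a Frobenius group outside the block; in both cases a semiregular subgroup normalised
by the stabiliser of the block results.
-/

set_option autoImplicit false

namespace CfsgLib.ItoDesign

open MulAction

variable {G Ω β : Type*} [Group G] [MulAction G Ω] [MulAction G β]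

namespace Design

variable (D : Design G Ω β) [Finite Ω] [FaithfulSMul G Ω]

/-- A non-identity element fixing a block pointwise fixes at most one further point. -/
theorem fixed_unique {B : β} {g : G} (hg : ∀ x ∈ D.pts B, g • x = x) (h1 : g ≠ 1) {z z' : Ω}
    (hz : z ∉ D.pts B) (hz' : z' ∉ D.pts B) (hgz : g • z = z) (hgz' : g • z' = z') : z = z' := by
  by_contra hzz
  haveI := D.finite_blk
  obtain ⟨x, hx⟩ : ∃ x, g • x ≠ x := by
    by_contra hall
    push_neg at hall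
    exact h1 (eq_of_smul_eq_smul (α := Ω) fun x => by rw [one_smul, hall x])
  have hxB : x ∉ D.pts B := fun h => hx (hg x h)
  have hfixw : ∀ w, w ∉ D.pts B → g • w = w → ∀ C, w ∈ D.pts C → g • C = C :=
    fun w hw hgw C hC => (D.crit hg hw hC).2 (by rwa [hgw])
  have hxw : ∀ w, w ∉ D.pts B → g • w = w →
      {C | x ∈ D.pts C ∧ w ∈ D.pts C} = {C | x ∈ D.pts C ∧ g • C = C} := by
    intro w hw hgw
    refine Set.eq_of_subset_of_ncard_le (fun C hC => ⟨hC.1, hfixw w hw hgw C hC.2⟩) ?_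
    have hne : x ≠ w := fun e => hx (e ▸ hgw)
    have h2 : {C | x ∈ D.pts C ∧ g • C = C} = {C | x ∈ D.pts C ∧ g • x ∈ D.pts C} :=
      Set.ext fun C => and_congr_right fun hxC => D.crit hg hxB hxC
    rw [h2, D.through_two x (g • x) (Ne.symm hx), D.through_two x w hne]
  have hzz' : {C | x ∈ D.pts C ∧ z ∈ D.pts C} = {C | z ∈ D.pts C ∧ z' ∈ D.pts C} := by
    refine Set.eq_of_subset_of_ncard_le (fun C hC => ⟨hC.2, ?_⟩) ?_
    · have : C ∈ {C | x ∈ D.pts C ∧ z' ∈ D.pts C} := by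
        rw [hxw z' hz' hgz', ← hxw z hz hgz]; exact hC
      exact this.2
    · rw [D.through_two z z' hzz, D.through_two x z (fun e => hx (e ▸ hgz))]
  obtain ⟨C, hC⟩ : {C | z ∈ D.pts C ∧ z' ∈ D.pts C}.Nonempty := by
    refine Set.nonempty_of_ncard_ne_zero ?_
    rw [D.through_two z z' hzz]
    have := D.one_le_l
    omega
  have hCB : C ≠ B := by rintro rfl; exact hz hC.1
  have hxC : x ∈ D.pts C := (hzz'.ge hC).1
  have hsub : (D.pts B)ᶜ ⊆ D.pts C \ D.pts B := by
    intro w hw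
    refine ⟨?_, hw⟩
    by_cases hgw : g • w = w
    · have : C ∈ {C | x ∈ D.pts C ∧ w ∈ D.pts C} := by
        rw [hxw w hw hgw, ← hxw z hz hgz]; exact hzz'.ge hC
      exact this.2
    · -- `w` is moved, so we may repeat the argument with `w` for `x`
      have hne : w ≠ z := fun e => hgw (e ▸ hgz)
      have hne' : w ≠ z' := fun e => hgw (e ▸ hgz')
      have e1 : ∀ u, u ∉ D.pts B → g • u = u →
          {C | w ∈ D.pts C ∧ u ∈ D.pts C} = {C | w ∈ D.pts C ∧ g • C = C} := by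
        intro u hu hgu
        refine Set.eq_of_subset_of_ncard_le (fun C hC => ⟨hC.1, hfixw u hu hgu C hC.2⟩) ?_
        have hne : w ≠ u := fun e => hgw (e ▸ hgu)
        have h2 : {C | w ∈ D.pts C ∧ g • C = C} = {C | w ∈ D.pts C ∧ g • w ∈ D.pts C} :=
          Set.ext fun C => and_congr_right fun hwC => D.crit hg hw hwC
        rw [h2, D.through_two w (g • w) (Ne.symm hgw), D.through_two w u hne]
      have e2 : {C | w ∈ D.pts C ∧ z ∈ D.pts C} = {C | z ∈ D.pts C ∧ z' ∈ D.pts C} := by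
        refine Set.eq_of_subset_of_ncard_le (fun C hC => ⟨hC.2, ?_⟩) ?_
        · have : C ∈ {C | w ∈ D.pts C ∧ z' ∈ D.pts C} := by
            rw [e1 z' hz' hgz', ← e1 z hz hgz]; exact hC
          exact this.2
        · rw [D.through_two z z' hzz, D.through_two w z hne]
      exact (e2.ge hC).1
  have h1' := Set.ncard_le_ncard hsub
  have h2' := Set.ncard_inter_add_ncard_diff_eq_ncard (D.pts C) (D.pts B) (Set.toFinite _)
  have h3' := Set.ncard_add_ncard_compl (D.pts B)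
  rw [D.card_pts] at h2' h3'
  rw [D.inter C B hCB] at h2'
  have hp := D.param
  have hl := D.l_add_two_le
  have h4 : Nat.card Ω - 1 ≤ 2 * D.k - D.l - 1 := by omega
  have h5 := Nat.mul_le_mul_left D.l h4
  rw [← hp] at h5
  have h6 : (D.k : ℤ) * ((D.k : ℤ) - 1) ≤ D.l * (2 * (D.k : ℤ) - D.l - 1) := by
    have h7 := Int.ofNat_le.2 h5
    rw [Nat.cast_mul, Nat.cast_mul, Nat.cast_sub (by omega), Nat.cast_sub (by omega),
      Nat.cast_sub (by omega)] at h7
    push_cast at h7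
    exact h7
  nlinarith

end Design

variable [Finite G] [Finite Ω] [FaithfulSMul G Ω] {D : Design G Ω β}

/-- Transport a subgroup normalised by the stabiliser of one block to all blocks. -/
theorem exists_axial (B₀ : β) (T₀ : Subgroup G)
    (hnorm : ∀ h : G, h • B₀ = B₀ → ∀ t ∈ T₀, h * t * h⁻¹ ∈ T₀)
    (hfix : ∀ t ∈ T₀, ∀ x ∈ D.pts B₀, t • x = x)
    (hsemi : ∀ t ∈ T₀, ∀ x, x ∉ D.pts B₀ → t • x = x → t = 1) (hne : T₀ ≠ ⊥) :
    Nonempty (Axial D) := by
  classical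
  haveI := D.finite_blk
  have htrans : ∀ C, ∃ g : G, g • B₀ = C := by
    intro C
    rcases eq_or_ne C B₀ with rfl | hC
    · exact ⟨1, one_smul _ _⟩
    · obtain ⟨g, hg, -⟩ := D.two_blk B₀ C C B₀ hC.symm hC
      exact ⟨g, hg⟩
  choose gC hgC using htrans
  have hmem : ∀ C t, t ∈ T₀.map (MulAut.conj (gC C)).toMonoidHom ↔ (gC C)⁻¹ * t * gC C ∈ T₀ := by
    intro C t
    constructor
    · rintro ⟨s, hs, rfl⟩
      simpa [MulAut.conj_apply, mul_assoc] using hs
    · exact fun h => ⟨_, h, by simp [MulAut.conj_apply, mul_assoc]⟩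
  refine ⟨{
    T := fun C => T₀.map (MulAut.conj (gC C)).toMonoidHom
    conj := fun g C t ht => ?_
    fix := fun C t ht x hx => ?_
    semireg := fun C t ht x hx htx => ?_
    ne_bot := fun C h => hne ?_ }⟩
  · rw [hmem] at ht ⊢
    have hh : ((gC (g • C))⁻¹ * g * gC C) • B₀ = B₀ := by
      rw [mul_smul, mul_smul, hgC, inv_smul_eq_iff, hgC]
    have := hnorm _ hh _ ht
    convert this using 1
    group
  · rw [hmem] at ht
    have h1 : (gC C)⁻¹ • x ∈ D.pts B₀ := by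
      have := (D.mem_smul (gC C)⁻¹ C x).2 hx
      rwa [inv_smul_eq_iff.2 (hgC C).symm] at this
    have h2 := hfix _ ht _ h1
    rwa [mul_smul, mul_smul, smul_inv_smul, smul_left_cancel_iff] at h2
  · rw [hmem] at ht
    have h1 : (gC C)⁻¹ • x ∉ D.pts B₀ := fun h => hx (by
      have := (D.mem_smul (gC C) B₀ _).2 h
      rwa [hgC, smul_inv_smul] at this)
    have h2 := hsemi _ ht _ h1 (by rw [mul_smul, mul_smul, smul_inv_smul, htx])
    have h3 := congrArg (fun s => gC C * s * (gC C)⁻¹) h2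
    simpa [mul_assoc] using h3
  · exact (Subgroup.map_eq_bot_iff_of_injective _ (MulAut.conj (gC C)).injective).1 h

/-- An abelian subgroup normalised by the stabiliser of a block and fixing it pointwise is semiregular
outside it. -/
theorem semireg_of_abelian (B₀ : β) (T₀ : Subgroup G)
    (hnorm : ∀ h : G, h • B₀ = B₀ → ∀ t ∈ T₀, h * t * h⁻¹ ∈ T₀)
    (hfix : ∀ t ∈ T₀, ∀ x ∈ D.pts B₀, t • x = x) (hcomm : ∀ s ∈ T₀, ∀ t ∈ T₀, s * t = t * s)
    (t : G) (ht : t ∈ T₀) (x : Ω) (hx : x ∉ D.pts B₀) (htx : t • x = x) : t = 1 := by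
  by_contra h1
  have hall : ∀ s ∈ T₀, s • x = x := by
    intro s hs
    refine D.fixed_unique (hfix t ht) h1 ?_ hx ?_ htx
    · exact fun h => hx ((D.smul_mem_iff s (D.fix_block (hfix s hs)) x).1 h)
    · rw [← mul_smul, hcomm t ht s hs, mul_smul, htx]
  refine h1 (eq_of_smul_eq_smul (α := Ω) fun y => ?_)
  rw [one_smul]
  by_cases hy : y ∈ D.pts B₀
  · exact hfix t ht y hy
  obtain ⟨h, hhx, hhB⟩ := D.flag x B₀ y B₀ (iff_of_false hx hy)
  have h2 := hall _ (hnorm h⁻¹ (inv_smul_eq_iff.2 hhB.symm) t ht)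
  rw [inv_inv, mul_smul, mul_smul, hhx, inv_smul_eq_iff, hhx] at h2
  exact h2

/-- The pointwise stabiliser of a block yields a semiregular normalised subgroup. -/
theorem exists_semireg (B₀ : β) (g₀ : G) (hg₀ : g₀ ≠ 1) (hg₀fix : ∀ x ∈ D.pts B₀, g₀ • x = x) :
    ∃ T₀ : Subgroup G, (∀ h : G, h • B₀ = B₀ → ∀ t ∈ T₀, h * t * h⁻¹ ∈ T₀) ∧
      (∀ t ∈ T₀, ∀ x ∈ D.pts B₀, t • x = x) ∧
      (∀ t ∈ T₀, ∀ x, x ∉ D.pts B₀ → t • x = x → t = 1) ∧ T₀ ≠ ⊥ := by
  classical
  let K : Subgroup G := fixingSubgroup G (D.pts B₀)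
  have hK : ∀ g, g ∈ K ↔ ∀ x ∈ D.pts B₀, g • x = x := fun g => mem_fixingSubgroup_iff G
  have hKnorm : ∀ h : G, h • B₀ = B₀ → ∀ t ∈ K, h * t * h⁻¹ ∈ K := by
    intro h hh t ht
    rw [hK] at ht ⊢
    intro x hx
    have : h⁻¹ • x ∈ D.pts B₀ := (D.smul_mem_iff h⁻¹ (inv_smul_eq_iff.2 hh.symm) x).2 hx
    rw [mul_smul, mul_smul, ht _ this, smul_inv_smul]
  have hKne : K ≠ ⊥ := fun e => hg₀ (by
    have := (hK g₀).2 hg₀fix
    rwa [e, Subgroup.mem_bot] at this)
  by_cases hsemi : ∀ t ∈ K, ∀ x, x ∉ D.pts B₀ → t • x = x → t = 1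
  · exact ⟨K, hKnorm, fun t ht => (hK t).1 ht, hsemi, hKne⟩
  push_neg at hsemi
  obtain ⟨t₁, ht₁, x₁, hx₁, htx₁, ht₁1⟩ := hsemi
  have hKout : ∀ (t : G), t ∈ K → ∀ x, x ∉ D.pts B₀ → t • x ∉ D.pts B₀ := fun t ht x hx h =>
    hx ((D.smul_mem_iff t (D.fix_block ((hK t).1 ht)) x).1 h)
  have huniq : ∀ t ∈ K, t ≠ 1 → ∀ y y', y ∉ D.pts B₀ → y' ∉ D.pts B₀ → t • y = y → t • y' = y' →
      y = y' := fun t ht h1 y y' hy hy' e e' => D.fixed_unique ((hK t).1 ht) h1 hy hy' e e'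
  -- a nonidentity element fixes each point outside the block
  have hstabne : ∀ y, y ∉ D.pts B₀ → ∃ t ∈ K, t ≠ 1 ∧ t • y = y := by
    intro y hy
    obtain ⟨h, hhx, hhB⟩ := D.flag x₁ B₀ y B₀ (iff_of_false hx₁ hy)
    refine ⟨h * t₁ * h⁻¹, hKnorm h hhB t₁ ht₁, fun e => ht₁1 ?_, ?_⟩
    · rwa [mul_inv_eq_one, mul_eq_left] at e
    · rw [← hhx, mul_smul, mul_smul, inv_smul_smul, htx₁]
  -- the Frobenius kernel at `x₁`
  let M : Subgroup K := stabilizer K x₁
  have hTI : ∀ g : K, g ∉ M → ∀ h ∈ M, g * h * g⁻¹ ∈ M → h = 1 := by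
    intro g hg h hh hconj
    by_contra hne
    apply hg
    have h1 : (h : G) • ((g : G)⁻¹ • x₁) = (g : G)⁻¹ • x₁ := by
      have h2 : (g * h * g⁻¹) • x₁ = x₁ := hconj
      change ((g : G) * h * (g : G)⁻¹) • x₁ = x₁ at h2
      rw [mul_smul, mul_smul] at h2
      exact eq_inv_smul_iff.2 h2
    have h2 := huniq h h.2 (fun e => hne (Subtype.ext e)) x₁ _ hx₁
      (hKout _ (inv_mem g.2) x₁ hx₁) hh h1
    exact (eq_inv_smul_iff.1 h2 : (g : G) • x₁ = x₁)
  obtain ⟨T, hTn, hTM, -, hTc, hTmem⟩ := CfsgLib.Char.exists_frobenius_kernel M hTI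
  have hTfix : ∀ t : K, t ∈ T → ∀ y ∈ orbit K x₁, t • y = y → t = 1 := by
    rintro t ht y ⟨g, rfl⟩ hy
    refine ((hTmem t).1 ht).resolve_right fun hno => hno g ?_
    change (g⁻¹ * t * g) • x₁ = x₁
    rw [mul_smul, mul_smul, inv_smul_eq_iff]
    exact hy
  -- the pointwise stabiliser is transitive outside the block
  have htr : ∀ y, y ∉ D.pts B₀ → y ∈ orbit K x₁ := by
    intro y hy
    by_contra hyo
    have hsub : ∀ t : K, t • y = y → t ∈ T := by
      intro t hty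
      refine (hTmem t).2 ?_
      by_cases h1 : t = 1
      · exact Or.inl h1
      refine Or.inr fun g hg => hyo ?_
      have h2 : (t : G) • ((g : G) • x₁) = (g : G) • x₁ := by
        change ((g : G)⁻¹ * t * (g : G)) • x₁ = x₁ at hg
        rw [mul_smul, mul_smul, inv_smul_eq_iff] at hg
        exact hg
      rw [huniq t t.2 (fun e => h1 (Subtype.ext e)) y _ hy (hKout _ g.2 x₁ hx₁) hty h2]
      exact ⟨g, rfl⟩
    have hTcard : Nat.card T = (orbit K x₁).ncard := by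
      have h1 := hTc.card_mul
      rw [show (orbit K x₁).ncard = M.index from (MulAction.index_stabilizer K x₁).symm]
      have h2 := M.card_mul_index
      have h3 : 0 < Nat.card M := Nat.card_pos
      nlinarith
    haveI : Nontrivial M := by
      refine ⟨⟨⟨t₁, ht₁⟩, htx₁⟩, 1, fun e => ht₁1 ?_⟩
      exact congrArg (fun m : M => ((m : K) : G)) e
    obtain ⟨r, hr, hrM⟩ := Nat.exists_prime_and_dvd (n := Nat.card M) Finite.one_lt_card.ne'
    haveI := Fact.mk hr
    obtain ⟨⟨g, hgM⟩, hg⟩ := exists_prime_orderOf_dvd_card' r hrM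
    rw [Subgroup.orderOf_mk] at hg
    have hg1 : g ≠ 1 := fun e => hr.ne_one (by rw [← hg, e, orderOf_one])
    -- an element of order `r` fixing `y`
    obtain ⟨h, hhx, hhB⟩ := D.flag x₁ B₀ y B₀ (iff_of_false hx₁ hy)
    let g' : K := ⟨h * g * h⁻¹, hKnorm h hhB g g.2⟩
    have hg'y : g' • y = y := by
      change (h * (g : G) * h⁻¹) • y = y
      rw [← hhx, mul_smul, mul_smul, inv_smul_smul]
      exact congrArg _ hgM
    have hg'r : orderOf (⟨g', hsub g' hg'y⟩ : T) = r := by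
      rw [Subgroup.orderOf_mk, ← Subgroup.orderOf_coe g', ← hg, ← Subgroup.orderOf_coe g]
      change orderOf (MulAut.conj h (g : G)) = _
      exact MulEquiv.orderOf_eq _ _
    have hdvd : r ∣ (orbit K x₁).ncard := by
      rw [← hTcard, ← hg'r]
      exact orderOf_dvd_natCard _
    have hmod := Axial.ncard_modEq (r := r) (g := g) (by rw [← hg]; exact pow_orderOf_eq_one g)
      (orbit K x₁) (fun z => by
        constructor
        · rintro ⟨k, hk⟩
          exact ⟨g⁻¹ * k, by rw [← inv_smul_smul g z]; change (g⁻¹ * k) • x₁ = _; rw [mul_smul]; exact congrArg _ hk⟩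
        · rintro ⟨k, rfl⟩
          exact ⟨g * k, mul_smul g k x₁⟩)
    have hone : {z | z ∈ orbit K x₁ ∧ g • z = z} = {x₁} := by
      ext z
      constructor
      · rintro ⟨⟨k, rfl⟩, hz⟩
        exact huniq g g.2 (fun e => hg1 (Subtype.ext e)) _ x₁ (hKout _ k.2 x₁ hx₁) hx₁ hz hgM
      · rintro rfl
        exact ⟨mem_orbit_self _, hgM⟩
    rw [hone, Set.ncard_singleton] at hmod
    exact hr.ne_one (Nat.dvd_one.1 ((Nat.ModEq.dvd_iff hmod dvd_rfl).1 hdvd))
  have hmemT : ∀ t : G, t ∈ T.map K.subtype ↔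
      t ∈ K ∧ (∀ y, y ∉ D.pts B₀ → t • y = y → t = 1) := by
    intro t
    constructor
    · rintro ⟨s, hs, rfl⟩
      exact ⟨s.2, fun y hy hsy => congrArg Subtype.val (hTfix s hs y (htr y hy) hsy)⟩
    · rintro ⟨htK, hfree⟩
      refine ⟨⟨t, htK⟩, (hTmem _).2 ?_, rfl⟩
      by_cases h1 : t = 1
      · exact Or.inl (Subtype.ext h1)
      refine Or.inr fun g hg => h1 (hfree ((g : G) • x₁) (hKout _ g.2 x₁ hx₁) ?_)
      change ((g : G)⁻¹ * t * (g : G)) • x₁ = x₁ at hg
      rw [mul_smul, mul_smul, inv_smul_eq_iff] at hg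
      exact hg
  refine ⟨T.map K.subtype, fun h hh t ht => ?_, fun t ht => (hK t).1 ((hmemT t).1 ht).1,
    fun t ht => ((hmemT t).1 ht).2, ?_⟩
  · rw [hmemT] at ht ⊢
    refine ⟨hKnorm h hh t ht.1, fun y hy hty => ?_⟩
    have hy' : h⁻¹ • y ∉ D.pts B₀ := fun e =>
      hy ((D.smul_mem_iff h⁻¹ (inv_smul_eq_iff.2 hh.symm) y).1 e)
    rw [mul_smul, mul_smul, ← eq_inv_smul_iff] at hty
    rw [ht.2 _ hy' hty, mul_one, mul_inv_cancel]
  · intro e
    rw [Subgroup.map_eq_bot_iff_of_injective _ K.subtype_injective] at e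
    have h1 := hTc.card_mul
    rw [e, Subgroup.card_bot, one_mul] at h1
    have htop : M = ⊤ := Subgroup.eq_top_of_card_eq M h1
    obtain ⟨y, hy, hyx⟩ : ∃ y, y ∉ D.pts B₀ ∧ y ≠ x₁ := by
      obtain ⟨y, hy, hne⟩ := Set.exists_ne_of_one_lt_ncard (s := (D.pts B₀)ᶜ) (by
        have h3 := Set.ncard_add_ncard_compl (D.pts B₀)
        rw [D.card_pts] at h3
        have := D.k_add_two_le
        omega) x₁
      exact ⟨y, hy, hne⟩
    obtain ⟨k, hk⟩ := htr y hy
    have : k ∈ M := by rw [htop]; trivial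
    exact hyx (hk.symm.trans this)

end CfsgLib.ItoDesign
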